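import Mathlib
import Cfsg.Prelude.Def_KGroupFacts
import Cfsg.Agent.H76.L34Multiplier
import Cfsg.Agent.H69.L34Covers
import Cfsg.Agent.H97.Schur
import Cfsg.Agent.H37.Card
import Cfsg.Agent.H37.Generation

/-!
Stem extensions of `PSL₃(4)` have kernels of order dividing `48`.
-/

set_option autoImplicit false

namespace H39.L34

open Subgroup H76.L34 H69.L34
open scoped commutatorElement

section general

variable {Γ G : Type*} [Group Γ] [Group G] (π : Γ →* G)

theorem commutator_eq_top_of_stem (hσ : Cfsg.IsStemExtension π) (hG : commutator G = ⊤) :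
    commutator Γ = ⊤ := by
  rw [eq_top_iff]
  intro x _
  have h : (commutator Γ).map π = ⊤ := by
    rw [map_commutator_eq, MonoidHom.range_eq_top.2 hσ.1, ← _root_.commutator_def, hG]
  obtain ⟨c, hc, hcx⟩ := h.ge (mem_top (π x))
  have hk : c⁻¹ * x ∈ π.ker := by simp [MonoidHom.mem_ker, hcx]
  simpa using mul_mem hc (hσ.2.2 hk)

theorem mem_of_central_pgroup [Finite Γ] {p : ℕ} [Fact p.Prime] (P : Sylow p Γ) {z : Γ}
    (hc : z ∈ center Γ) {k : ℕ} (hz : z ^ p ^ k = 1) : z ∈ P := by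
  obtain ⟨j, -, hj⟩ := (Nat.dvd_prime_pow Fact.out).1 (orderOf_dvd_of_pow_eq_one hz)
  obtain ⟨Q, hQ⟩ := (IsPGroup.of_card (G := zpowers z) (n := j)
    (by rw [Nat.card_zpowers, hj])).exists_le_sylow
  obtain ⟨g, rfl⟩ := MulAction.exists_smul_eq Γ Q P
  rw [← SetLike.mem_coe, Sylow.coe_smul]
  exact ⟨z, hQ (mem_zpowers z), by
    show g * z * g⁻¹ = z
    rw [mem_center_iff.1 hc g, mul_inv_cancel_right]⟩

variable {π}

theorem comm_pow_of_pow_central (hc : π.ker ≤ center Γ) {x y : Γ} (hxy : π x * π y = π y * π x)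
    (n : ℕ) : ⁅x, y⁆ ^ n = ⁅x ^ n, y⁆ := by
  have hk : ⁅x, y⁆ ∈ π.ker := by
    rw [MonoidHom.mem_ker, map_commutatorElement, commutatorElement_eq_one_iff_mul_comm, hxy]
  induction n with
  | zero => simp
  | succ n ih =>
    rw [pow_succ', pow_succ', commutatorElement_mul_left_eq_conj_mul, ← ih,
      mem_center_iff.1 (hc (π.ker.pow_mem hk n)) x, mul_inv_cancel_right,
      (Commute.pow_self ⁅x, y⁆ n).eq]

theorem comm_sq_eq_one (hc : π.ker ≤ center Γ) {x y : Γ} (hxy : π x * π y = π y * π x)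
    (hx : π x * π x = 1) : ⁅x, y⁆ * ⁅x, y⁆ = 1 := by
  rw [← sq, comm_pow_of_pow_central hc hxy, commutatorElement_eq_one_iff_mul_comm]
  have hk : x ^ 2 ∈ π.ker := by rw [MonoidHom.mem_ker, map_pow, sq, hx]
  exact (mem_center_iff.1 (hc hk) y).symm

theorem pow_four_mul (hc : π.ker ≤ center Γ) {x y : Γ} (hxy : π x * π y = π y * π x)
    (hy : π y * π y = 1) : (x * y) ^ 4 = x ^ 4 * y ^ 4 := by
  have hk : ⁅y, x⁆ ∈ π.ker := by
    rw [MonoidHom.mem_ker, map_commutatorElement, commutatorElement_eq_one_iff_mul_comm, hxy]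
  have hsq := comm_sq_eq_one hc hxy.symm hy
  have hcz := mem_center_iff.1 (hc hk)
  have hyy : y * y ∈ center Γ := hc (by rw [MonoidHom.mem_ker, map_mul, hy])
  have h2 : (x * y) ^ 2 = x * x * (y * y) * ⁅y, x⁆ := by
    have e : y * x = x * y * ⁅y, x⁆ := by
      rw [hcz (x * y), commutatorElement_def]
      group
    calc (x * y) ^ 2 = x * (y * x) * y := by rw [sq]; simp [mul_assoc]
      _ = x * (x * y * ⁅y, x⁆) * y := by rw [e]
      _ = x * x * y * (⁅y, x⁆ * y) := by simp [mul_assoc]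
      _ = x * x * y * (y * ⁅y, x⁆) := by rw [hcz y]
      _ = x * x * (y * y) * ⁅y, x⁆ := by simp [mul_assoc]
  calc (x * y) ^ 4 = (x * x * (y * y) * ⁅y, x⁆) ^ 2 := by rw [← h2, ← pow_mul]
    _ = (x * x * (y * y)) ^ 2 * ⁅y, x⁆ ^ 2 :=
        (show Commute (x * x * (y * y)) ⁅y, x⁆ from hcz _).mul_pow 2
    _ = (x * x) ^ 2 * (y * y) ^ 2 := by
        rw [sq ⁅y, x⁆, hsq, mul_one]
        exact (show Commute (x * x) (y * y) from mem_center_iff.1 hyy _).mul_pow 2
    _ = x ^ 4 * y ^ 4 := by rw [← sq x, ← sq y, ← pow_mul, ← pow_mul]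

end general

variable {F : Type*} [Field F] [Fintype F]
variable {Γ : Type*} [Group Γ] [Finite Γ]

local notation "LG" => Matrix.ProjectiveSpecialLinearGroup (Fin 3) F

theorem card_psl34 (hF : Fintype.card F = 4) : Nat.card LG = 20160 := by
  have h := H37.card_PSL_fin (F := F) 3 (by norm_num)
  rw [Nat.card_eq_fintype_card (α := F), hF, Fin.prod_univ_three] at h
  norm_num at h
  omega

theorem perfect_psl (hF : Fintype.card F = 4) : commutator LG = ⊤ := by
  haveI := H37.isSimpleGroup_PSL (ι := Fin 3) (F := F) (by simp)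
  refine (Subgroup.Normal.eq_bot_or_eq_top (H := commutator LG) inferInstance).resolve_left fun h => ?_
  have hcomm : ∀ a b : LG, a * b = b * a := fun a b => by
    rw [← commutatorElement_eq_one_iff_mul_comm, ← Subgroup.mem_bot, ← h]
    exact Subgroup.commutator_mem_commutator (mem_top a) (mem_top b)
  have h1 := hcomm (puni 1 0 0) (puni 0 0 1)
  rw [puni_mul, puni_mul] at h1
  have := (puni_inj h1).2.1
  simp at this

theorem puni_one : puni (0 : F) 0 0 = 1 := by rw [puni, uni_zero]; rfl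

theorem puni_row_comm (a b a' b' : F) : puni a b 0 * puni a' b' 0 = puni a' b' 0 * puni a b 0 := by
  rw [puni_mul, puni_mul]; congr 1 <;> ring

theorem puni_col_comm (b c b' c' : F) : puni 0 b c * puni 0 b' c' = puni 0 b' c' * puni 0 b c := by
  rw [puni_mul, puni_mul]; congr 1 <;> ring

theorem puni_sq (hF : Fintype.card F = 4) {a b c : F} (h : a * c = 0) :
    puni a b c * puni a b c = 1 := by
  rw [puni_mul, add_self_four hF, add_self_four hF, add_self_four hF, h, add_zero, puni_one]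

/-- The kernel elements of 2-power order have order at most four. -/
theorem pow_four_eq_one (hF : Fintype.card F = 4) (π : Γ →* LG) (hσ : Cfsg.IsStemExtension π)
    {z : Γ} (hz : z ∈ π.ker) {k : ℕ} (hk : z ^ 2 ^ k = 1) : z ^ 4 = 1 := by
  classical
  haveI : Fact (Nat.Prime 2) := ⟨Nat.prime_two⟩
  obtain ⟨hs, hc, hd⟩ := hσ
  have hcard : Nat.card (pB F) = 2 ^ (Nat.card LG).factorization 2 := by
    have e1 : Nat.card (pB F) = Nat.card (F × F × F) := by
      refine Nat.card_congr (Equiv.ofBijective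
        (fun v : F × F × F => (⟨puni v.1 v.2.1 v.2.2, mem_pB.2 ⟨_, _, _, rfl⟩⟩ : pB F))
        ⟨fun v v' h => ?_, fun s => ?_⟩).symm
      · obtain ⟨h1, h2, h3⟩ := puni_inj (congrArg Subtype.val h)
        exact Prod.ext h1 (Prod.ext h2 h3)
      · obtain ⟨a, b, c, h⟩ := mem_pB.1 s.2
        exact ⟨(a, b, c), Subtype.ext h.symm⟩
    rw [e1, Nat.card_prod, Nat.card_prod, Nat.card_eq_fintype_card, hF, card_psl34 hF,
      show (20160 : ℕ) = 2 ^ 6 * 315 by norm_num,
      Nat.factorization_mul (by norm_num) (by norm_num), Finsupp.add_apply,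
      Nat.Prime.factorization_pow Nat.prime_two, Finsupp.single_eq_same,
      Nat.factorization_eq_zero_of_not_dvd (by norm_num : ¬ 2 ∣ 315)]
    norm_num
  obtain ⟨P0⟩ := (inferInstance : Nonempty (Sylow 2 Γ))
  obtain ⟨g, hg⟩ := MulAction.exists_smul_eq LG (P0.mapSurjective hs) (Sylow.ofCard (pB F) hcard)
  obtain ⟨g, rfl⟩ := hs g
  let P : Sylow 2 Γ := g • P0
  have himg : (P : Subgroup Γ).map π = pB F := by
    ext s
    rw [← Sylow.coe_ofCard (pB F) hcard, ← hg]
    constructor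
    · rintro ⟨_, ⟨x, hx, rfl⟩, rfl⟩
      refine ⟨π x, ⟨x, hx, rfl⟩, ?_⟩
      show π g * π x * (π g)⁻¹ = π (g * x * g⁻¹)
      simp
    · rintro ⟨_, ⟨x, hx, rfl⟩, rfl⟩
      refine ⟨g * x * g⁻¹, ⟨x, hx, rfl⟩, ?_⟩
      show π (g * x * g⁻¹) = π g * π x * (π g)⁻¹
      simp
  have hB : ∀ x ∈ (P : Subgroup Γ), ∃ a b c, π x = puni a b c := fun x hx =>
    mem_pB.1 (himg ▸ mem_map_of_mem π hx)
  let T : Subgroup Γ :=
    { carrier := {x | x ∈ (P : Subgroup Γ) ∧ (∃ b, π x = puni 0 b 0) ∧ x ^ 4 = 1}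
      one_mem' := ⟨one_mem _, ⟨0, by rw [map_one, puni_one]⟩, one_pow 4⟩
      mul_mem' := by
        rintro x y ⟨hxP, ⟨b, hb⟩, hx⟩ ⟨hyP, ⟨b', hb'⟩, hy⟩
        refine ⟨mul_mem hxP hyP, ⟨b + b', by rw [map_mul, hb, hb', puni_mul]; simp⟩, ?_⟩
        rw [pow_four_mul hc (by rw [hb, hb', puni_row_comm]) (by rw [hb', puni_sq hF (by simp)]), hx, hy,
          mul_one]
      inv_mem' := by
        rintro x ⟨hxP, ⟨b, hb⟩, hx⟩
        refine ⟨inv_mem hxP, ⟨b, ?_⟩, by rw [inv_pow, hx, inv_one]⟩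
        rw [map_inv, hb]
        exact inv_eq_of_mul_eq_one_right (puni_sq hF (by simp)) }
  have hTn : ∀ p ∈ (P : Subgroup Γ), ∀ t ∈ T, p * t * p⁻¹ ∈ T := by
    rintro p hp t ⟨htP, ⟨b, hb⟩, ht⟩
    obtain ⟨a', b', c', hp'⟩ := hB p hp
    refine ⟨mul_mem (mul_mem hp htP) (inv_mem hp), ⟨b, ?_⟩, by rw [conj_pow, ht, mul_one, mul_inv_cancel]⟩
    rw [map_mul, map_mul, map_inv, hb, hp', mul_inv_eq_iff_eq_mul, puni_mul, puni_mul]
    congr 1 <;> ring
  -- commutators of lifts inside one elation group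
  have hsame : ∀ x ∈ (P : Subgroup Γ), ∀ y ∈ (P : Subgroup Γ), π x * π y = π y * π x →
      π x * π x = 1 → ⁅x, y⁆ ∈ T := by
    intro x hx y hy hxy hx2
    refine ⟨?_, ⟨0, by
      rw [map_commutatorElement, commutatorElement_eq_one_iff_mul_comm.2 hxy, puni_one]⟩, ?_⟩
    · rw [commutatorElement_def]; exact mul_mem (mul_mem (mul_mem hx hy) (inv_mem hx)) (inv_mem hy)
    · rw [show (4 : ℕ) = 2 * 2 by rfl, pow_mul, sq ⁅x, y⁆, comm_sq_eq_one hc hxy hx2, one_pow]
  -- commutators between the two groups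
  have hcross : ∀ x ∈ (P : Subgroup Γ), ∀ y ∈ (P : Subgroup Γ), ∀ a b b' c : F,
      π x = puni a b 0 → π y = puni 0 b' c → ⁅x, y⁆ ∈ T := by
    intro x hx y hy a b b' c hx' hy'
    have hπc : π ⁅x, y⁆ = puni 0 (a * c) 0 := by
      rw [map_commutatorElement, hx', hy', commutatorElement_def, mul_inv_eq_iff_eq_mul,
        mul_inv_eq_iff_eq_mul, puni_mul, puni_mul, puni_mul]
      congr 1 <;> ring
    have hm : π x * π ⁅x, y⁆ = π ⁅x, y⁆ * π x := by rw [hπc, hx', puni_row_comm]
    have hx2 : π x * π x = 1 := by rw [hx', puni_sq hF (by simp)]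
    have hxx : x * x ∈ center Γ := hc (by rw [MonoidHom.mem_ker, map_mul, hx2])
    have h1 : ⁅x, ⁅x, y⁆⁆ * (⁅x, y⁆ * ⁅x, y⁆) = 1 := by
      calc ⁅x, ⁅x, y⁆⁆ * (⁅x, y⁆ * ⁅x, y⁆) = x * ⁅x, y⁆ * x⁻¹ * ⁅x, y⁆ := by
            rw [commutatorElement_def x ⁅x, y⁆]; group
        _ = ⁅x * x, y⁆ := by rw [commutatorElement_mul_left_eq_conj_mul]
        _ = 1 := commutatorElement_eq_one_iff_mul_comm.2 (mem_center_iff.1 hxx y).symm
    have h2 := comm_sq_eq_one hc hm hx2
    refine ⟨?_, ⟨_, hπc⟩, ?_⟩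
    · rw [commutatorElement_def]; exact mul_mem (mul_mem (mul_mem hx hy) (inv_mem hx)) (inv_mem hy)
    · rw [show (4 : ℕ) = 2 * 2 by rfl, pow_mul, sq ⁅x, y⁆, eq_inv_of_mul_eq_one_right h1, inv_pow, sq,
        h2, inv_one]
  have hdec : ∀ p ∈ (P : Subgroup Γ), ∃ x ∈ (P : Subgroup Γ), ∃ y ∈ (P : Subgroup Γ), ∃ a b c : F,
      p = x * y ∧ π x = puni a b 0 ∧ π y = puni 0 0 c := by
    intro p hp
    obtain ⟨a, b, c, h⟩ := hB p hp
    have hm : puni a (b - a * c) 0 ∈ (P : Subgroup Γ).map π := himg ▸ mem_pB.2 ⟨_, _, _, rfl⟩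
    obtain ⟨x, hx, hx'⟩ := hm
    refine ⟨x, hx, x⁻¹ * p, mul_mem (inv_mem hx) hp, a, b - a * c, c, (mul_inv_cancel_left x p).symm,
      hx', ?_⟩
    rw [map_mul, map_inv, inv_mul_eq_iff_eq_mul, hx', h, puni_mul]
    simp
  have hle : ⁅(P : Subgroup Γ), (P : Subgroup Γ)⁆ ≤ T := by
    refine Subgroup.commutator_le.2 fun p hp p' hp' => ?_
    obtain ⟨x, hx, y, hy, a, b, c, rfl, hπx, hπy⟩ := hdec p hp
    obtain ⟨x', hx', y', hy', a', b', c', rfl, hπx', hπy'⟩ := hdec p' hp'
    have e1 : ⁅y, x'⁆ ∈ T := by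
      rw [← commutatorElement_inv]
      exact inv_mem (hcross x' hx' y hy a' b' 0 c hπx' hπy)
    have e2 : ⁅y, y'⁆ ∈ T := hsame y hy y' hy' (by rw [hπy, hπy', puni_col_comm])
      (by rw [hπy, puni_sq hF (by simp)])
    have e3 : ⁅x, x'⁆ ∈ T := hsame x hx x' hx' (by rw [hπx, hπx', puni_row_comm])
      (by rw [hπx, puni_sq hF (by simp)])
    have e4 : ⁅x, y'⁆ ∈ T := hcross x hx y' hy' a b 0 c' hπx hπy'
    rw [commutatorElement_mul_left_eq_conj_mul, commutatorElement_mul_right_eq_mul_conj,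
      commutatorElement_mul_right_eq_mul_conj]
    refine mul_mem (hTn x hx _ ?_) ?_ <;>
      simp only [mul_assoc ⁅_, _⁆]
    · exact mul_mem e1 (by simpa [mul_assoc] using hTn x' hx' _ e2)
    · exact mul_mem e3 (by simpa [mul_assoc] using hTn x' hx' _ e4)
  have hzP := mem_of_central_pgroup P (hc hz) hk
  have h1 := H97.mem_commutator_sylow P (hc hz) (hd hz) hzP
  have h2 : z ∈ ⁅(P : Subgroup Γ), (P : Subgroup Γ)⁆ := by
    rw [← Subgroup.map_subtype_commutator]
    exact ⟨_, h1, rfl⟩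
  exact (hle h2).2.2

/-- At most four kernel elements square to the identity. -/
theorem card_sq_eq_one_le (hF : Fintype.card F = 4) (π : Γ →* LG) (hσ : Cfsg.IsStemExtension π) :
    Nat.card {z : π.ker // (z : Γ) * z = 1} ≤ 4 := by
  have hperf := commutator_eq_top_of_stem π hσ (perfect_psl hF)
  haveI : IsMulCommutative π.ker :=
    ⟨⟨fun a b => Subtype.ext (mem_center_iff.1 (hσ.2.1 b.2) a)⟩⟩
  let sq' : π.ker →* Γ := MonoidHom.mk' (fun z => (z : Γ) * z) fun a b => by
    show (a : Γ) * b * (a * b) = a * a * (b * b)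
    have := mem_center_iff.1 (hσ.2.1 b.2) (a : Γ)
    simp only [mul_assoc]
    rw [← mul_assoc (b : Γ) a, ← this, mul_assoc]
  set N := sq'.range
  have hNk : N ≤ π.ker := by
    rintro _ ⟨z, rfl⟩
    exact mul_mem z.2 z.2
  haveI hNn : N.Normal := ⟨fun n hn g => by
    rw [mem_center_iff.1 (hσ.2.1 (hNk hn)) g, mul_inv_cancel_right]; exact hn⟩
  let π' : Γ ⧸ N →* LG := QuotientGroup.lift N π hNk
  have hs' : Function.Surjective π' := fun s => by
    obtain ⟨x, rfl⟩ := hσ.1 s
    exact ⟨x, rfl⟩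
  have hker : π'.ker = π.ker.map (QuotientGroup.mk' N) := by
    ext x
    obtain ⟨x, rfl⟩ := QuotientGroup.mk_surjective x
    constructor
    · exact fun h => ⟨x, h, rfl⟩
    · rintro ⟨y, hy, e⟩
      rw [← e]
      exact hy
  have hc' : π'.ker ≤ center (Γ ⧸ N) := by
    rw [hker]
    rintro _ ⟨y, hy, rfl⟩
    refine mem_center_iff.2 fun g => ?_
    obtain ⟨g, rfl⟩ := QuotientGroup.mk_surjective g
    exact congrArg QuotientGroup.mk (mem_center_iff.1 (hσ.2.1 hy) g)
  have h2' : ∀ z ∈ π'.ker, z * z = 1 := by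
    rw [hker]
    rintro _ ⟨y, hy, rfl⟩
    show ((y * y : Γ) : Γ ⧸ N) = 1
    rw [QuotientGroup.eq_one_iff]
    exact ⟨⟨y, hy⟩, rfl⟩
  have hperf' : commutator (Γ ⧸ N) = ⊤ := by
    rw [_root_.commutator_def, ← MonoidHom.range_eq_top.2 (QuotientGroup.mk'_surjective N),
      MonoidHom.range_eq_map, ← Subgroup.map_commutator, ← _root_.commutator_def, hperf]
  have h4 := card_ker_le_four hF π' hs' hc' h2' hperf'
  refine le_trans (le_of_eq ?_) h4
  -- the kernel of squaring and the quotient by the squares have the same order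
  let f : π.ker →* π'.ker := ((QuotientGroup.mk' N).comp π.ker.subtype).codRestrict _ fun z => by
    rw [hker]; exact ⟨z, z.2, rfl⟩
  have hf : Function.Surjective f := by
    rintro ⟨x, hx⟩
    rw [hker] at hx
    obtain ⟨y, hy, rfl⟩ := hx
    exact ⟨⟨y, hy⟩, rfl⟩
  have hfker : f.ker = N.subgroupOf π.ker := by
    ext z
    rw [MonoidHom.mem_ker, mem_subgroupOf, Subtype.ext_iff]
    exact QuotientGroup.eq_one_iff (N := N) (z : Γ)
  have e1 := f.ker.card_mul_index
  rw [Subgroup.index_ker, MonoidHom.range_eq_top.2 hf, Subgroup.card_top, hfker,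
    Nat.card_congr (subgroupOfEquivOfLe hNk).toEquiv] at e1
  have e2 := sq'.ker.card_mul_index
  rw [Subgroup.index_ker] at e2
  have hpos : 0 < Nat.card N := Nat.card_pos
  have e3 : Nat.card {z : π.ker // (z : Γ) * z = 1} = Nat.card sq'.ker := rfl
  rw [e3]
  refine Nat.eq_of_mul_eq_mul_right hpos (e2.trans ?_)
  rw [← e1, mul_comm]

/-- The order of the kernel of a stem extension. -/
theorem card_ker_dvd (hF : Fintype.card F = 4) (π : Γ →* LG) (hσ : Cfsg.IsStemExtension π) :
    Nat.card π.ker ∣ 48 := by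
  classical
  obtain ⟨hs, hc, hd⟩ := id hσ
  rw [← Nat.factorization_le_iff_dvd Nat.card_pos.ne' (by norm_num)]
  intro r
  by_cases hr : r.Prime
  swap
  · rw [Nat.factorization_eq_zero_of_not_prime _ hr]
    exact Nat.zero_le _
  haveI : Fact r.Prime := ⟨hr⟩
  obtain ⟨S⟩ := (inferInstance : Nonempty (Sylow r π.ker))
  have hcardS := S.card_eq_multiplicity
  set e := (Nat.card π.ker).factorization r
  -- every element of `S` is in the commutator of every Sylow subgroup
  have hmem : ∀ (P : Sylow r Γ) (z : π.ker), z ∈ (S : Subgroup π.ker) →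
      ∃ h : (z : Γ) ∈ P, (⟨(z : Γ), h⟩ : P) ∈ commutator P := by
    intro P z hz
    obtain ⟨k, hk⟩ := S.isPGroup' ⟨z, hz⟩
    have hk' : (z : Γ) ^ r ^ k = 1 := congrArg (fun u : (S : Subgroup π.ker) => ((u : π.ker) : Γ)) hk
    exact ⟨_, H97.mem_commutator_sylow P (hc z.2) (hd z.2) (mem_of_central_pgroup P (hc z.2) hk')⟩
  obtain ⟨P⟩ := (inferInstance : Nonempty (Sylow r Γ))
  by_cases h2 : r = 2
  · subst h2
    haveI : IsMulCommutative π.ker :=
      ⟨⟨fun a b => Subtype.ext (mem_center_iff.1 (hc b.2) a)⟩⟩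
    let d : π.ker →* π.ker := MonoidHom.mk' (fun z => z * z) fun a b => by
      rw [mul_assoc a b (a * b), ← mul_assoc b a b, mul_comm' b a]
      simp only [mul_assoc]
    have hd4 : Nat.card d.ker ≤ 4 := by
      refine le_trans (le_of_eq (Nat.card_congr (Equiv.subtypeEquivRight fun z => ?_))) (card_sq_eq_one_le hF π hσ)
      rw [MonoidHom.mem_ker]
      exact Subtype.ext_iff
    have hS4 : Nat.card (S : Subgroup π.ker) ≤ 16 := by
      let d' : (S : Subgroup π.ker) →* π.ker := d.comp (S : Subgroup π.ker).subtype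
      have hr' : d'.range ≤ d.ker := by
        rintro _ ⟨z, rfl⟩
        obtain ⟨k, hk⟩ := S.isPGroup' z
        have h4 := pow_four_eq_one hF π hσ (z := ((z : π.ker) : Γ)) (z : π.ker).2 (k := k)
          (congrArg (fun u : (S : Subgroup π.ker) => ((u : π.ker) : Γ)) hk)
        rw [MonoidHom.mem_ker]
        refine Subtype.ext ?_
        show ((z : π.ker) : Γ) * z * (((z : π.ker) : Γ) * z) = 1
        rw [← h4]; simp [pow_succ, mul_assoc]
      have hk' : Nat.card d'.ker ≤ Nat.card d.ker :=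
        Nat.card_le_card_of_injective (fun z => (⟨(z.1 : π.ker), z.2⟩ : d.ker))
          fun a b h => Subtype.ext (Subtype.ext (congrArg (fun u : d.ker => (u : π.ker)) h))
      have hm := d'.ker.card_mul_index
      rw [Subgroup.index_ker] at hm
      rw [← hm]
      exact le_trans (Nat.mul_le_mul hk' (Subgroup.card_le_of_le hr'))
        (Nat.mul_le_mul hd4 hd4)
    have h16 : e ≤ 4 := by
      rw [hcardS] at hS4
      by_contra h
      have := Nat.pow_le_pow_right two_pos (show 5 ≤ e by omega)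
      omega
    rw [show (48 : ℕ) = 2 ^ 4 * 3 by norm_num, Nat.factorization_mul (by norm_num) (by norm_num),
      Finsupp.add_apply, Nat.Prime.factorization_pow Nat.prime_two, Finsupp.single_eq_same]
    omega
  by_cases h3 : r = 3
  · subst h3
    have hG : Nat.card LG = 20160 := card_psl34 hF
    let Q : Sylow 3 LG := P.mapSurjective hs
    have hQ : Nat.card (Q : Subgroup LG) = 3 ^ 2 := by
      rw [Q.card_eq_multiplicity, hG, show (20160 : ℕ) = 3 ^ 2 * 2240 by norm_num,
        Nat.factorization_mul (by norm_num) (by norm_num), Finsupp.add_apply,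
        Nat.Prime.factorization_pow Nat.prime_three, Finsupp.single_eq_same,
        Nat.factorization_eq_zero_of_not_dvd (by norm_num : ¬ 3 ∣ 2240)]
    have hQcomm := IsPGroup.isMulCommutative_of_card_eq_prime_sq hQ
    have hPQ : ∀ x : P, π x ∈ (Q : Subgroup LG) := fun x => mem_map_of_mem π x.2
    have hcom : ∀ x y : P, π x * π y = π y * π x := fun x y =>
      congrArg Subtype.val (hQcomm.is_comm.comm (⟨π x, hPQ x⟩ : (Q : Subgroup LG)) ⟨π y, hPQ y⟩)
    let φ : P →* (Q : Subgroup LG) := (π.comp (P : Subgroup Γ).subtype).codRestrict _ hPQ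
    have hφ : Function.Surjective φ := by
      rintro ⟨s, x, hx, rfl⟩
      exact ⟨⟨x, hx⟩, rfl⟩
    have hφc : ∀ x : P, φ x = 1 → ∀ y : P, (x : Γ) * y = y * x := fun x hx y =>
      (mem_center_iff.1 (hc (congrArg Subtype.val hx)) y).symm
    suffices hN : ∃ c : Γ, c ^ 3 = 1 ∧ ∀ x y : P, ⁅(x : Γ), (y : Γ)⁆ ∈ zpowers c by
      obtain ⟨c, hc3, hcc⟩ := hN
      have hle : ∀ z ∈ (S : Subgroup π.ker), (z : Γ) ∈ zpowers c := by
        intro z hz
        obtain ⟨h, h'⟩ := hmem P z hz
        have : (z : Γ) ∈ ⁅(P : Subgroup Γ), (P : Subgroup Γ)⁆ := by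
          rw [← Subgroup.map_subtype_commutator]; exact ⟨_, h', rfl⟩
        exact Subgroup.commutator_le.2 (fun x hx y hy => hcc ⟨x, hx⟩ ⟨y, hy⟩) this
      have h3 : Nat.card (S : Subgroup π.ker) ≤ 3 := by
        refine le_trans (Nat.card_le_card_of_injective
          (fun z => (⟨((z : π.ker) : Γ), hle z z.2⟩ : zpowers c))
          fun a b h => Subtype.ext (Subtype.ext (congrArg (fun u : zpowers c => (u : Γ)) h))) ?_
        rw [Nat.card_zpowers]
        exact Nat.le_of_dvd (by norm_num) (orderOf_dvd_of_pow_eq_one hc3)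
      have he : e ≤ 1 := by
        rw [hcardS] at h3
        by_contra h
        have := Nat.pow_le_pow_right (show 0 < 3 by norm_num) (show 2 ≤ e by omega)
        omega
      rw [show (48 : ℕ) = 3 ^ 1 * 16 by norm_num, Nat.factorization_mul (by norm_num) (by norm_num),
        Finsupp.add_apply, Nat.Prime.factorization_pow Nat.prime_three, Finsupp.single_eq_same]
      omega
    by_cases hcy : IsCyclic (Q : Subgroup LG)
    · obtain ⟨q, hq⟩ := hcy.exists_generator
      obtain ⟨a, rfl⟩ := hφ q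
      refine ⟨1, one_pow 3, fun x y => ?_⟩
      have key : ∀ u : P, ∃ n : ℤ, π (((a : Γ) ^ n)⁻¹ * u) = 1 := fun u => by
        obtain ⟨n, hn⟩ := mem_zpowers_iff.1 (hq (φ u))
        refine ⟨n, ?_⟩
        have hn' : π ((a : Γ) ^ n) = π u := by
          rw [← Subgroup.coe_zpow]
          exact congrArg Subtype.val ((map_zpow φ a n).trans hn)
        rw [map_mul, map_inv, hn', inv_mul_cancel]
      obtain ⟨n, hn⟩ := key x
      obtain ⟨m, hm⟩ := key y
      have hxy := (((Commute.refl (a : Γ)).zpow_zpow n m).mul_right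
        (mem_center_iff.1 (hc hm) _)).mul_left (mem_center_iff.1 (hc hn) _).symm
      rw [mul_inv_cancel_left, mul_inv_cancel_left] at hxy
      rw [commutatorElement_eq_one_iff_mul_comm.2 hxy.eq]
      exact one_mem _
    have hexp : ∀ x : P, π ((x : Γ) ^ 3) = 1 := by
      intro x
      rw [map_pow]
      have hdvd : orderOf (φ x) ∣ 3 ^ 2 := hQ ▸ orderOf_dvd_natCard _
      obtain ⟨i, hi, hi'⟩ := (Nat.dvd_prime_pow Nat.prime_three).1 hdvd
      have : φ x ^ 3 = 1 := by
        refine orderOf_dvd_iff_pow_eq_one.1 ?_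
        rw [hi']
        rcases (show i ≤ 1 ∨ i = 2 by omega) with h | rfl
        · exact (pow_dvd_pow 3 h).trans (by norm_num)
        · exact absurd (isCyclic_of_orderOf_eq_card (φ x) (by rw [hi', hQ])) hcy
      exact congrArg Subtype.val this
    -- two generators
    haveI : Nontrivial (Q : Subgroup LG) := Finite.one_lt_card_iff_nontrivial.1 (by rw [hQ]; norm_num)
    obtain ⟨qa, hqa⟩ := exists_ne (1 : (Q : Subgroup LG))
    obtain ⟨a, rfl⟩ := hφ qa
    obtain ⟨qb, hqb⟩ : ∃ q : (Q : Subgroup LG), q ∉ zpowers (φ a) := by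
      by_contra h
      push Not at h
      exact hcy ⟨⟨φ a, h⟩⟩
    obtain ⟨b, rfl⟩ := hφ qb
    have htop : zpowers (φ a) ⊔ zpowers (φ b) = ⊤ := by
      have h1 : 3 ≤ Nat.card (zpowers (φ a)) := by
        rw [Nat.card_zpowers]
        obtain ⟨i, hi, hi'⟩ := (Nat.dvd_prime_pow Nat.prime_three).1 (hQ ▸ orderOf_dvd_natCard (φ a))
        rcases Nat.eq_zero_or_pos i with rfl | hi0
        · exact absurd (orderOf_eq_one_iff.1 (by simpa using hi')) hqa
        · rw [hi']; exact Nat.le_self_pow (by omega) 3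
      have h2 : zpowers (φ a) < zpowers (φ a) ⊔ zpowers (φ b) :=
        lt_of_le_of_ne le_sup_left fun h => hqb (h ▸ mem_sup_right (mem_zpowers _))
      set U := zpowers (φ a) ⊔ zpowers (φ b)
      obtain ⟨j, hj, hj'⟩ := (Nat.dvd_prime_pow Nat.prime_three).1 (hQ ▸ U.card_subgroup_dvd_card)
      have h3 : Nat.card (zpowers (φ a)) < Nat.card U := by
        refine lt_of_le_of_ne (Subgroup.card_le_of_le h2.le) fun h => h2.ne ?_
        exact eq_of_le_of_card_ge h2.le h.ge
      refine (Subgroup.card_eq_iff_eq_top U).1 ?_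
      rw [hj', hQ]
      congr 1
      by_contra hne
      have := Nat.pow_le_pow_right (show 0 < 3 by norm_num) (show j ≤ 1 by omega)
      omega
    set c := ⁅(a : Γ), (b : Γ)⁆ with hcdef
    have hck : ∀ x y : P, ⁅(x : Γ), (y : Γ)⁆ ∈ π.ker := fun x y => by
      rw [MonoidHom.mem_ker, map_commutatorElement, commutatorElement_eq_one_iff_mul_comm, hcom]
    refine ⟨c, ?_, ?_⟩
    · rw [hcdef, comm_pow_of_pow_central hc (hcom a b), commutatorElement_eq_one_iff_mul_comm]
      exact (mem_center_iff.1 (hc (hexp a)) _).symm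
    -- the elements commuting with everything modulo `c` form a subgroup
    have hgen : ∀ (w : P), (∀ u : P, u = a ∨ u = b → ⁅(u : Γ), (w : Γ)⁆ ∈ zpowers c) →
        ∀ x : P, ⁅(x : Γ), (w : Γ)⁆ ∈ zpowers c := by
      intro w hw
      let U : Subgroup P :=
        { carrier := {u | ⁅(u : Γ), (w : Γ)⁆ ∈ zpowers c}
          one_mem' := by simp
          mul_mem' := fun {u v} hu hv => by
            show ⁅(u : Γ) * v, (w : Γ)⁆ ∈ zpowers c
            rw [commutatorElement_mul_left_eq_conj_mul, mem_center_iff.1 (hc (hck v w)) u,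
              mul_inv_cancel_right]
            exact mul_mem hv hu
          inv_mem' := fun {u} hu => by
            show ⁅((u : Γ))⁻¹, (w : Γ)⁆ ∈ zpowers c
            have h := commutatorElement_mul_left_eq_conj_mul ((u : Γ))⁻¹ (u : Γ) (w : Γ)
            rw [inv_mul_cancel, commutatorElement_one_left, mem_center_iff.1 (hc (hck u w)),
              mul_inv_cancel_right] at h
            rw [eq_inv_of_mul_eq_one_right h.symm]
            exact inv_mem hu }
      intro x
      have hx : φ x ∈ U.map φ := by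
        have : (⊤ : Subgroup (Q : Subgroup LG)) ≤ U.map φ := by
          rw [← htop, sup_le_iff, zpowers_le, zpowers_le]
          exact ⟨⟨a, hw a (Or.inl rfl), rfl⟩, ⟨b, hw b (Or.inr rfl), rfl⟩⟩
        exact this (mem_top _)
      obtain ⟨u, hu, hux⟩ := hx
      have hz : φ (u⁻¹ * x) = 1 := by rw [map_mul, map_inv, hux, inv_mul_cancel]
      have hz1 : u⁻¹ * x ∈ U := by
        show ⁅((u⁻¹ * x : P) : Γ), (w : Γ)⁆ ∈ zpowers c
        rw [commutatorElement_eq_one_iff_mul_comm.2 (hφc _ hz w)]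
        exact one_mem _
      have : u * (u⁻¹ * x) ∈ U := mul_mem hu hz1
      rwa [mul_inv_cancel_left] at this
    intro x y
    refine hgen y (fun u hu => ?_) x
    rw [← inv_mem_iff, commutatorElement_inv]
    refine hgen u (fun v hv => ?_) y
    rcases hu with rfl | rfl <;> rcases hv with rfl | rfl
    · simp
    · rw [← inv_mem_iff, commutatorElement_inv]; exact mem_zpowers c
    · exact mem_zpowers c
    · simp
  · have he : e = 0 := by
      by_contra he
      have h5 : ¬ r ^ 2 ∣ Nat.card LG := by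
        rw [card_psl34 hF, show (20160 : ℕ) = 2 ^ 6 * 3 ^ 2 * 35 by norm_num]
        intro hd'
        have hco : Nat.Coprime (r ^ 2) (2 ^ 6 * 3 ^ 2) :=
          Nat.Coprime.mul_right (((Nat.coprime_primes hr Nat.prime_two).2 h2).pow 2 6)
            (((Nat.coprime_primes hr Nat.prime_three).2 h3).pow 2 2)
        have h35 := hco.dvd_of_dvd_mul_left hd'
        have hle : r * r ≤ 35 := by rw [← sq]; exact Nat.le_of_dvd (by norm_num) h35
        have : r ≤ 5 := by nlinarith
        interval_cases r <;> simp_all (config := { decide := true })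
      have htriv : ∀ z ∈ (S : Subgroup π.ker), z = 1 := by
        intro z hz
        obtain ⟨h, h'⟩ := hmem P z hz
        have := H97.commutator_trivial_of_comm (H97.commute_of_not_sq_dvd hs hc h5 P) h'
        exact Subtype.ext (congrArg (fun u : P => (u : Γ)) this)
      have : Nat.card (S : Subgroup π.ker) = 1 := by
        rw [Subgroup.card_eq_one, Subgroup.eq_bot_iff_forall]; exact htriv
      rw [hcardS] at this
      exact hr.one_lt.ne' ((Nat.pow_eq_one.1 this).resolve_right he)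
    omega

end H39.L34
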