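import Cfsg.Agent.H39.L34.Data

/-!
Boolean checks on the data.
-/

set_option autoImplicit false

namespace H39.L34

/-- Entry of a list of lists of rows of twenty-one. -/
def gat {α : Type} (l : List (List α)) (d : α) (j : ℕ) : α := (l.getD (j / 21) []).getD (j % 21) d

/-- The involution. -/
def t (j : ℕ) : M3 := mat3 (gat Data.inv3 0 j)

/-- Its lift. -/
def R (j : ℕ) : M8 := mat8 (gat Data.inv8 ⟨0, 0, 0, 0, 0, 0, 0, 0⟩ j)

/-- The action of a generator. -/
def actOf (k j : ℕ) : ℕ × ℕ :=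
  let x := gat Data.act ((0, 0), (0, 0), (0, 0)) j
  match k with
  | 0 => x.1
  | 1 => x.2.1
  | _ => x.2.2

/-- One check. -/
def chk (k j : ℕ) : Bool :=
  decide ((actOf k j).1 < 315) &&
    decide (mul3 (t (Data.gid k)) (t j) = mul3 (t (actOf k j).1) (t (Data.gid k))) &&
    decide (mul8 (R (Data.gid k)) (R j) = smul8 (actOf k j).2 (mul8 (R (actOf k j).1) (R (Data.gid k))))

end H39.L34
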