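import Mathlib
import Cfsg.Agent.H39.L34.Check

/-!
Kernel-checked facts about the tables.
-/

set_option autoImplicit false

namespace H39.L34

theorem chk0 : (List.range 315).all (chk 0) = true := by decide +kernel
theorem chk1 : (List.range 315).all (chk 1) = true := by decide +kernel
theorem chk2 : (List.range 315).all (chk 2) = true := by decide +kernel

theorem chk_all (k : ℕ) {j : ℕ} (hj : j < 315) :
    (actOf k j).1 < 315 ∧ mul3 (t (Data.gid k)) (t j) = mul3 (t (actOf k j).1) (t (Data.gid k)) ∧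
      mul8 (R (Data.gid k)) (R j) =
        smul8 (actOf k j).2 (mul8 (R (actOf k j).1) (R (Data.gid k))) := by
  have h : ∀ k, (List.range 315).all (chk k) = true → chk k j = true := fun k h =>
    List.all_eq_true.1 h j (List.mem_range.2 hj)
  rcases k with _ | _ | k
  · simpa [chk, and_assoc] using h 0 chk0
  · simpa [chk, and_assoc] using h 1 chk1
  · have : ∀ j, actOf (k + 2) j = actOf 2 j := fun _ => rfl
    rw [this, show Data.gid (k + 2) = Data.gid 2 from rfl]
    simpa [chk, and_assoc] using h 2 chk2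

/-- A code of a coded matrix. -/
def code3 (A : M3) : ℕ :=
  let q : Q4 → ℕ := fun x => match x with | .o => 0 | .e => 1 | .w => 2 | .v => 3
  q A.m00 + 4 * (q A.m01 + 4 * (q A.m02 + 4 * (q A.m10 + 4 * (q A.m11 + 4 * (q A.m12 +
    4 * (q A.m20 + 4 * (q A.m21 + 4 * q A.m22)))))))

theorem codes_increasing : (List.range 314).all (fun j => decide (code3 (t j) < code3 (t (j + 1)))) = true := by
  decide +kernel

theorem t_injective {i j : ℕ} (hi : i < 315) (hj : j < 315) (h : t i = t j) : i = j := by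
  have key : ∀ a b, a < b → b < 315 → code3 (t a) < code3 (t b) := by
    intro a b hab hb
    induction b, hab using Nat.le_induction with
    | base => simpa using List.all_eq_true.1 codes_increasing a (List.mem_range.2 (by omega))
    | succ b hab ih =>
      have := List.all_eq_true.1 codes_increasing b (List.mem_range.2 (by omega))
      simp at this
      exact (ih (by omega)).trans this
  rcases lt_trichotomy i j with hlt | heq | hgt
  · have := key i j hlt hj
    rw [h] at this
    omega
  · exact heq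
  · have := key j i hgt hi
    rw [h] at this
    omega

/-- Evaluation of a word. -/
def ev3 : List ℕ → M3
  | [] => one3
  | k :: w => mul3 (t (Data.gid k)) (ev3 w)

/-- Evaluation of a word. -/
def ev8 : List ℕ → M8
  | [] => one8
  | k :: w => mul8 (R (Data.gid k)) (ev8 w)

theorem gen_sq (k : ℕ) : mul3 (t (Data.gid k)) (t (Data.gid k)) = one3 ∧
    mul8 (R (Data.gid k)) (R (Data.gid k)) = one8 ∧ Data.gid k < 315 := by
  rcases k with _ | _ | k
  · decide +kernel
  · decide +kernel
  · rw [show Data.gid (k + 2) = Data.gid 2 from rfl]; decide +kernel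

/-- The next index. -/
def nx : ℕ → ℕ
  | 0 => 1
  | 1 => 2
  | _ => 0

theorem twist_gen (k : ℕ) :
    mul3 (mul3 (mat3 Data.dTw) (t (Data.gid k))) (mat3 Data.dTi) = t (Data.gid (nx k)) := by
  rcases k with _ | _ | k
  · decide +kernel
  · decide +kernel
  · rw [show Data.gid (k + 2) = Data.gid 2 from rfl, show nx (k + 2) = nx 2 from rfl]
    decide +kernel

theorem twist_inv : mul3 (mat3 Data.dTi) (mat3 Data.dTw) = one3 ∧
    mul3 (mat3 Data.dTw) (mat3 Data.dTi) = one3 := by decide +kernel

theorem conj_words :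
    mul3 (ev3 Data.wu1) (t (Data.gid 0)) = mul3 (t (Data.gid 1)) (ev3 Data.wu1) ∧
    mul3 (ev3 Data.wu2) (t (Data.gid 0)) = mul3 (t (Data.gid 2)) (ev3 Data.wu2) ∧
    mul3 (ev3 Data.wb) (t (Data.gid 0)) = mul3 (t Data.jb) (ev3 Data.wb) ∧
    mul3 (ev3 Data.wc) (t (Data.gid 0)) = mul3 (t Data.jc) (ev3 Data.wc) ∧
    mul8 (R (Data.gid 0)) (R Data.jb) = smul8 Data.ctri (R Data.jc) ∧
    mul8 (R Data.jb) (R Data.jb) = one8 ∧
    Data.jb < 315 ∧ Data.jc < 315 := by
  decide +kernel

/-- An elementary coded matrix. -/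
def el3 (i j : Fin 3) (a : ℕ) : M3 := mat3 (65793 + a * 4 ^ (3 * (i : ℕ) + j))

theorem roots_ok : ∀ i j : Fin 3, i ≠ j → ∀ a : Fin 2,
    (Data.roots.any fun r => decide (r.1 = (i : ℕ) ∧ r.2.1 = (j : ℕ) ∧ r.2.2.1 = (a : ℕ) + 1 ∧
      ev3 r.2.2.2 = el3 i j ((a : ℕ) + 1))) = true := by
  decide +kernel

/-- Commutator word. -/
def cword (a b : List ℕ) : List ℕ :=
  (List.replicate 5 (a ++ b ++ a.reverse ++ b.reverse)).flatten

theorem word_vals :
    ev3 (cword Data.pa1 Data.pb1) = one3 ∧ ev3 ((cword Data.pa1 Data.pb1).map nx) = one3 ∧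
    ev8 (cword Data.pa1 Data.pb1) = smul8 12 one8 ∧
    ev8 ((cword Data.pa1 Data.pb1).map nx) = smul8 12 one8 ∧
    ev3 (cword Data.pa2 Data.pb2) = one3 ∧ ev3 ((cword Data.pa2 Data.pb2).map nx) = one3 ∧
    ev8 (cword Data.pa2 Data.pb2) = smul8 12 one8 ∧
    ev8 ((cword Data.pa2 Data.pb2).map nx) = smul8 28 one8 := by
  decide +kernel

end H39.L34
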