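import Mathlib

/-!
Coded matrices: `8 × 8` over `ZMod 29` and `3 × 3` over a field with four elements.
-/

set_option autoImplicit false

namespace H39.L34

/-- Eight entries. -/
structure V8 (α : Type) where
  a0 : α
  a1 : α
  a2 : α
  a3 : α
  a4 : α
  a5 : α
  a6 : α
  a7 : α
deriving DecidableEq

namespace V8

/-- Entrywise map. -/
def map {α β : Type} (f : α → β) (v : V8 α) : V8 β :=
  ⟨f v.a0, f v.a1, f v.a2, f v.a3, f v.a4, f v.a5, f v.a6, f v.a7⟩

/-- Entry. -/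
def get {α : Type} (v : V8 α) (i : Fin 8) : α :=
  match i.val with
  | 0 => v.a0
  | 1 => v.a1
  | 2 => v.a2
  | 3 => v.a3
  | 4 => v.a4
  | 5 => v.a5
  | 6 => v.a6
  | _ => v.a7

theorem get_map {α β : Type} (f : α → β) (v : V8 α) (i : Fin 8) : (v.map f).get i = f (v.get i) := by
  fin_cases i <;> rfl

end V8

/-- Coded `8 × 8` matrices. -/
abbrev M8 := V8 (V8 ℕ)

/-- The transpose. -/
def tr8 (B : M8) : M8 :=
  ⟨B.map V8.a0, B.map V8.a1, B.map V8.a2, B.map V8.a3, B.map V8.a4, B.map V8.a5, B.map V8.a6, B.map V8.a7⟩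

/-- Dot product modulo `29`. -/
def dot8 (r c : V8 ℕ) : ℕ :=
  (r.a0 * c.a0 + r.a1 * c.a1 + r.a2 * c.a2 + r.a3 * c.a3 + r.a4 * c.a4 + r.a5 * c.a5 + r.a6 * c.a6 +
    r.a7 * c.a7) % 29

/-- Product. -/
def mul8 (A B : M8) : M8 := A.map fun r => (tr8 B).map (dot8 r)

/-- Scalar multiple. -/
def smul8 (c : ℕ) (A : M8) : M8 := A.map fun r => r.map fun x => c * x % 29

/-- Identity. -/
def one8 : M8 :=
  ⟨⟨1, 0, 0, 0, 0, 0, 0, 0⟩, ⟨0, 1, 0, 0, 0, 0, 0, 0⟩, ⟨0, 0, 1, 0, 0, 0, 0, 0⟩,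
    ⟨0, 0, 0, 1, 0, 0, 0, 0⟩, ⟨0, 0, 0, 0, 1, 0, 0, 0⟩, ⟨0, 0, 0, 0, 0, 1, 0, 0⟩,
    ⟨0, 0, 0, 0, 0, 0, 1, 0⟩, ⟨0, 0, 0, 0, 0, 0, 0, 1⟩⟩

/-- A row from eight base-32 digits. -/
def row8 (n : ℕ) : V8 ℕ :=
  ⟨n % 32, n / 2 ^ 5 % 32, n / 2 ^ 10 % 32, n / 2 ^ 15 % 32, n / 2 ^ 20 % 32, n / 2 ^ 25 % 32,
    n / 2 ^ 30 % 32, n / 2 ^ 35 % 32⟩

/-- A matrix from eight codes. -/
def mat8 (v : V8 ℕ) : M8 := v.map row8

/-- The matrix coded. -/
def val8 (A : M8) : Matrix (Fin 8) (Fin 8) (ZMod 29) := fun i j => ((A.get i).get j : ZMod 29)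

theorem val8_apply (A : M8) (i j : Fin 8) : val8 A i j = ((A.get i).get j : ZMod 29) := rfl

theorem get_tr8 (B : M8) (j i : Fin 8) : ((tr8 B).get j).get i = (B.get i).get j := by
  fin_cases j <;> exact V8.get_map _ _ _

theorem val8_mul (A B : M8) : val8 (mul8 A B) = val8 A * val8 B := by
  ext i j
  rw [Matrix.mul_apply, val8_apply, mul8, V8.get_map, V8.get_map, Fin.sum_univ_eight]
  simp only [val8_apply, ← get_tr8 B j, dot8]
  rw [ZMod.natCast_mod]
  push_cast
  rfl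

theorem val8_smul (c : ℕ) (A : M8) : val8 (smul8 c A) = (c : ZMod 29) • val8 A := by
  ext i j
  rw [Matrix.smul_apply, val8_apply, val8_apply, smul8, V8.get_map, V8.get_map, ZMod.natCast_mod,
    Nat.cast_mul, smul_eq_mul]

theorem val8_one : val8 one8 = 1 := by
  ext i j
  fin_cases i <;> fin_cases j <;> rfl

/-- The field with four elements, coded: `0, 1, w, w + 1`. -/
inductive Q4 where
  | o | e | w | v
deriving DecidableEq

namespace Q4

/-- Sum. -/
def add : Q4 → Q4 → Q4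
  | o, x => x
  | x, o => x
  | e, e => o
  | w, w => o
  | v, v => o
  | e, w => v
  | w, e => v
  | e, v => w
  | v, e => w
  | w, v => e
  | v, w => e

/-- Product. -/
def mul : Q4 → Q4 → Q4
  | o, _ => o
  | _, o => o
  | e, x => x
  | x, e => x
  | w, w => v
  | w, v => e
  | v, w => e
  | v, v => w

/-- From a number. -/
def ofCode : ℕ → Q4
  | 0 => o
  | 1 => e
  | 2 => w
  | _ => v

variable {F : Type*} [Field F]

/-- The value. -/
def val (ω : F) : Q4 → F
  | o => 0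
  | e => 1
  | w => ω
  | v => ω + 1

theorem val_add {ω : F} (h2 : (2 : F) = 0) : ∀ x y, val ω (add x y) = val ω x + val ω y := by
  intro x y
  cases x <;> cases y <;> simp only [add, val] <;>
    first
      | ring1
      | linear_combination -h2
      | linear_combination -ω * h2
      | linear_combination -(ω + 1) * h2

theorem val_mul {ω : F} (hw : ω * ω + ω + 1 = 0) (h2 : (2 : F) = 0) :
    ∀ x y, val ω (mul x y) = val ω x * val ω y := by
  intro x y
  cases x <;> cases y <;> simp only [mul, val] <;>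
    first
      | ring1
      | linear_combination -hw + (ω + 1) * h2
      | linear_combination -hw + h2
      | linear_combination -hw - h2 * 0
      | linear_combination -hw

theorem val_injective {ω : F} (hw : ω * ω + ω + 1 = 0) (h2 : (2 : F) = 0) :
    Function.Injective (val ω) := by
  have h0 : ω ≠ 0 := fun h => by rw [h] at hw; simp at hw
  have h1 : ω ≠ 1 := fun h => by rw [h] at hw; exact one_ne_zero (α := F) (by linear_combination hw - h2)
  have h3 : ω + 1 ≠ 0 := fun h => h1 (by linear_combination h - h2)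
  intro x y h
  cases x <;> cases y <;> simp only [val] at h <;>
    first
      | rfl
      | exact absurd h zero_ne_one
      | exact absurd h one_ne_zero
      | exact absurd h h0
      | exact absurd h.symm h0
      | exact absurd h h1
      | exact absurd h.symm h1
      | exact absurd h h3
      | exact absurd h.symm h3
      | exact absurd (show (0 : F) = 1 by linear_combination h) zero_ne_one
      | exact absurd (show ω = 0 by linear_combination h) h0
      | exact absurd (show ω = 0 by linear_combination -h) h0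
      | exact absurd (show (0 : F) = 1 by linear_combination -h) zero_ne_one

end Q4

/-- Nine entries. -/
structure M3 where
  m00 : Q4
  m01 : Q4
  m02 : Q4
  m10 : Q4
  m11 : Q4
  m12 : Q4
  m20 : Q4
  m21 : Q4
  m22 : Q4
deriving DecidableEq

/-- Dot product. -/
def dot3 (a b c x y z : Q4) : Q4 := (Q4.mul a x).add ((Q4.mul b y).add (Q4.mul c z))

/-- Product. -/
def mul3 (A B : M3) : M3 :=
  ⟨dot3 A.m00 A.m01 A.m02 B.m00 B.m10 B.m20, dot3 A.m00 A.m01 A.m02 B.m01 B.m11 B.m21,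
   dot3 A.m00 A.m01 A.m02 B.m02 B.m12 B.m22, dot3 A.m10 A.m11 A.m12 B.m00 B.m10 B.m20,
   dot3 A.m10 A.m11 A.m12 B.m01 B.m11 B.m21, dot3 A.m10 A.m11 A.m12 B.m02 B.m12 B.m22,
   dot3 A.m20 A.m21 A.m22 B.m00 B.m10 B.m20, dot3 A.m20 A.m21 A.m22 B.m01 B.m11 B.m21,
   dot3 A.m20 A.m21 A.m22 B.m02 B.m12 B.m22⟩

/-- Identity. -/
def one3 : M3 := ⟨.e, .o, .o, .o, .e, .o, .o, .o, .e⟩

/-- A matrix from a base-4 code. -/
def mat3 (n : ℕ) : M3 :=
  ⟨Q4.ofCode (n % 4), Q4.ofCode (n / 4 % 4), Q4.ofCode (n / 4 ^ 2 % 4), Q4.ofCode (n / 4 ^ 3 % 4),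
   Q4.ofCode (n / 4 ^ 4 % 4), Q4.ofCode (n / 4 ^ 5 % 4), Q4.ofCode (n / 4 ^ 6 % 4),
   Q4.ofCode (n / 4 ^ 7 % 4), Q4.ofCode (n / 4 ^ 8 % 4)⟩

variable {F : Type*} [Field F]

/-- The matrix coded. -/
def val3 (ω : F) (A : M3) : Matrix (Fin 3) (Fin 3) F :=
  !![A.m00.val ω, A.m01.val ω, A.m02.val ω; A.m10.val ω, A.m11.val ω, A.m12.val ω;
     A.m20.val ω, A.m21.val ω, A.m22.val ω]

theorem val3_mul {ω : F} (hw : ω * ω + ω + 1 = 0) (h2 : (2 : F) = 0) (A B : M3) :
    val3 ω (mul3 A B) = val3 ω A * val3 ω B := by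
  ext i j
  fin_cases i <;> fin_cases j <;>
    simp [val3, mul3, dot3, Q4.val_add h2, Q4.val_mul hw h2, Matrix.mul_apply, Fin.sum_univ_three,
      add_assoc]

theorem val3_one (ω : F) : val3 ω one3 = 1 := by
  ext i j
  fin_cases i <;> fin_cases j <;> simp [val3, one3, Q4.val]

theorem val3_injective {ω : F} (hw : ω * ω + ω + 1 = 0) (h2 : (2 : F) = 0) :
    Function.Injective (val3 ω) := by
  intro A B h
  have e := fun i j => congrFun (congrFun h i) j
  have hi := Q4.val_injective hw h2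
  cases A; cases B
  simp only [M3.mk.injEq]
  exact ⟨hi (e 0 0), hi (e 0 1), hi (e 0 2), hi (e 1 0), hi (e 1 1), hi (e 1 2), hi (e 2 0),
    hi (e 2 1), hi (e 2 2)⟩

end H39.L34
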