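import Mathlib
import Cfsg.Prelude.Def_KGroupFacts
import Cfsg.Agent.H39.L34.Certificate
import Cfsg.Agent.H37.Generation
import Cfsg.Agent.H76.L34Multiplier
import Cfsg.Agent.H76.CoverLift
import Cfsg.Agent.H39.L34.Upper

/-!
A central extension of `PSL₃(4)` whose kernel meets the derived group in `C₃ × C₄ × C₄`.
-/

set_option autoImplicit false

namespace H39.L34

open Matrix

local instance fact29 : Fact (Nat.Prime 29) := ⟨by norm_num⟩

/-- A field with four elements and a chosen generator. -/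
structure F4Data (F : Type*) [Field F] [Fintype F] where
  /-- The generator. -/
  ω : F
  card : Fintype.card F = 4
  ne : ω ≠ 1
  rel : ω * ω + ω + 1 = 0
  two : (2 : F) = 0

variable {F : Type*} [Field F] [Fintype F] (Q : F4Data F)

/-- The ambient group. -/
abbrev Amb (F : Type*) [Field F] : Type _ :=
  Matrix.SpecialLinearGroup (Fin 3) F × GL (Fin 8) (ZMod 29)

/-- The lifted generators. -/
def gen (k : ℕ) : Amb F :=
  (⟨val3 Q.ω (t (Data.gid k)), by
      have h : val3 Q.ω (t (Data.gid k)) * val3 Q.ω (t (Data.gid k)) = 1 := by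
        rw [← val3_mul Q.rel Q.two, (gen_sq k).1, val3_one]
      have hd := congrArg Matrix.det h
      rw [det_mul, det_one] at hd
      rcases mul_self_eq_one_iff.1 hd with e | e
      · exact e
      · rw [e]; linear_combination -Q.two⟩,
   ⟨val8 (R (Data.gid k)), val8 (R (Data.gid k)),
    by rw [← val8_mul, (gen_sq k).2.1, val8_one], by rw [← val8_mul, (gen_sq k).2.1, val8_one]⟩)

theorem gen_mul_self (k : ℕ) : gen Q k * gen Q k = 1 := by
  refine Prod.ext (Subtype.ext ?_) (Units.ext ?_)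
  · show val3 Q.ω (t (Data.gid k)) * val3 Q.ω (t (Data.gid k)) = 1
    rw [← val3_mul Q.rel Q.two, (gen_sq k).1, val3_one]
  · show val8 (R (Data.gid k)) * val8 (R (Data.gid k)) = 1
    rw [← val8_mul, (gen_sq k).2.1, val8_one]

/-- The group of the lifts. -/
def W : Subgroup (Amb F) := Subgroup.closure (Set.range (gen Q))

/-- A word. -/
def wd (w : List ℕ) : Amb F := (w.map (gen Q)).prod

theorem wd_mem (w : List ℕ) : wd Q w ∈ W Q :=
  list_prod_mem fun x hx => by
    obtain ⟨k, -, rfl⟩ := List.mem_map.1 hx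
    exact Subgroup.subset_closure ⟨k, rfl⟩

theorem wd_append (a b : List ℕ) : wd Q (a ++ b) = wd Q a * wd Q b := by
  rw [wd, wd, wd, List.map_append, List.prod_append]

theorem wd_reverse (a : List ℕ) : wd Q a.reverse = (wd Q a)⁻¹ := by
  induction a with
  | nil => simp [wd]
  | cons k a ih =>
    rw [List.reverse_cons, wd_append, ih, show wd Q (k :: a) = gen Q k * wd Q a from List.prod_cons,
      _root_.mul_inv_rev, show wd Q [k] = gen Q k from mul_one _,
      inv_eq_of_mul_eq_one_right (gen_mul_self Q k)]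

theorem wd_fst (w : List ℕ) :
    ((wd Q w).1 : Matrix (Fin 3) (Fin 3) F) = val3 Q.ω (ev3 w) := by
  induction w with
  | nil => exact (val3_one _).symm
  | cons k w ih =>
    show ((gen Q k).1 : Matrix (Fin 3) (Fin 3) F) * ((wd Q w).1 : Matrix (Fin 3) (Fin 3) F) = _
    rw [ih, ev3, val3_mul Q.rel Q.two]
    rfl

theorem wd_snd (w : List ℕ) :
    ((wd Q w).2 : Matrix (Fin 8) (Fin 8) (ZMod 29)) = val8 (ev8 w) := by
  induction w with
  | nil => exact val8_one.symm
  | cons k w ih =>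
    show ((gen Q k).2 : Matrix (Fin 8) (Fin 8) (ZMod 29)) * ((wd Q w).2 : Matrix (Fin 8) (Fin 8) (ZMod 29)) = _
    rw [ih, ev8, val8_mul]
    rfl

theorem smul_cancel {c d : ZMod 29} {u : GL (Fin 8) (ZMod 29)}
    (h : c • (u : Matrix (Fin 8) (Fin 8) (ZMod 29)) = d • (u : Matrix (Fin 8) (Fin 8) (ZMod 29))) :
    c = d := by
  have := congrArg (fun M => M * ((u⁻¹ : GL (Fin 8) (ZMod 29)) : Matrix (Fin 8) (Fin 8) (ZMod 29))) h
  simp only [smul_mul_assoc, Units.mul_inv] at this
  have e := congrFun (congrFun this 0) 0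
  simpa using e

/-- The invariant: the involutions and their lifts are permuted alike. -/
def Inv (x : Amb F) : Prop :=
  ∀ j < 315, ∃ j' < 315, ∃ c : ZMod 29,
    (x.1 : Matrix (Fin 3) (Fin 3) F) * val3 Q.ω (t j) = val3 Q.ω (t j') * (x.1 : Matrix (Fin 3) (Fin 3) F) ∧
    (x.2 : Matrix (Fin 8) (Fin 8) (ZMod 29)) * val8 (R j) =
      c • (val8 (R j') * (x.2 : Matrix (Fin 8) (Fin 8) (ZMod 29)))

theorem inv_of_mem [Finite F] {x : Amb F} (hx : x ∈ W Q) : Inv Q x := by
  have h1 : Inv Q 1 := fun j hj => ⟨j, hj, 1, by simp, by simp⟩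
  have hm : ∀ a b, Inv Q a → Inv Q b → Inv Q (a * b) := by
    intro a b ha hb j hj
    obtain ⟨i, hi, c, e1, e2⟩ := hb j hj
    obtain ⟨i', hi', d, f1, f2⟩ := ha i hi
    refine ⟨i', hi', c * d, ?_, ?_⟩
    · simp only [Prod.fst_mul, Matrix.SpecialLinearGroup.coe_mul]
      rw [Matrix.mul_assoc, e1, ← Matrix.mul_assoc, f1, Matrix.mul_assoc]
    · simp only [Prod.snd_mul, Units.val_mul]
      rw [mul_assoc, e2, mul_smul_comm, ← mul_assoc, f2, smul_mul_assoc, smul_smul, mul_assoc]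
  induction hx using Subgroup.closure_induction with
  | mem x hx =>
    obtain ⟨k, rfl⟩ := hx
    intro j hj
    obtain ⟨hlt, e1, e2⟩ := chk_all k hj
    refine ⟨_, hlt, ((actOf k j).2 : ZMod 29), ?_, ?_⟩
    · have := congrArg (val3 Q.ω) e1
      rwa [val3_mul Q.rel Q.two, val3_mul Q.rel Q.two] at this
    · have := congrArg val8 e2
      rwa [val8_smul, val8_mul, val8_mul] at this
  | one => exact h1
  | mul a b _ _ ha hb => exact hm a b ha hb
  | inv a _ ha =>
    obtain ⟨n, hn⟩ : ∃ n : ℕ, a⁻¹ = a ^ n := by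
      refine ⟨orderOf a - 1, inv_eq_of_mul_eq_one_right ?_⟩
      rw [← pow_succ', Nat.sub_add_cancel (isOfFinOrder_of_finite a).orderOf_pos, pow_orderOf_eq_one]
    rw [hn]
    clear hn
    induction n with
    | zero => rw [pow_zero]; exact h1
    | succ n ih => rw [pow_succ]; exact hm _ _ ih ha

theorem t_cancel {x : Matrix.SpecialLinearGroup (Fin 3) F} {i j : ℕ} (hi : i < 315) (hj : j < 315)
    (h : val3 Q.ω (t i) * (x : Matrix (Fin 3) (Fin 3) F) = val3 Q.ω (t j) * (x : Matrix (Fin 3) (Fin 3) F)) :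
    i = j := by
  refine t_injective hi hj (val3_injective Q.rel Q.two ?_)
  have := congrArg (fun M => M * ((x⁻¹ : Matrix.SpecialLinearGroup (Fin 3) F) : Matrix (Fin 3) (Fin 3) F)) h
  simp only [Matrix.mul_assoc, ← Matrix.SpecialLinearGroup.coe_mul, mul_inv_cancel,
    Matrix.SpecialLinearGroup.coe_one, Matrix.mul_one] at this
  exact this

theorem central_of_fst_center [Finite F] {x : Amb F} (hx : x ∈ W Q)
    (hc : x.1 ∈ Subgroup.center (Matrix.SpecialLinearGroup (Fin 3) F)) :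
    ∀ y ∈ W Q, y * x = x * y := by
  set X := (x.2 : Matrix (Fin 8) (Fin 8) (ZMod 29)) with hX
  obtain ⟨r, -, hr⟩ := Matrix.SpecialLinearGroup.mem_center_iff.1 hc
  have hfix : ∀ j < 315, ∃ c : ZMod 29, X * val8 (R j) = c • (val8 (R j) * X) := by
    intro j hj
    obtain ⟨j', hj', c, e1, e2⟩ := inv_of_mem Q hx j hj
    have : j' = j := by
      refine t_cancel Q hj' hj (x := x.1) ?_
      rw [← e1, ← hr]
      exact (Matrix.scalar_commute r (fun s => Commute.all r s) _).eq
    subst this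
    exact ⟨c, e2⟩
  -- scalars along words
  have hsc : ∀ y ∈ W Q, ∃ c : ZMod 29, c ≠ 0 ∧
      X * (y.2 : Matrix (Fin 8) (Fin 8) (ZMod 29)) = c • ((y.2 : Matrix (Fin 8) (Fin 8) (ZMod 29)) * X) := by
    have hne : ∀ {y : Amb F} {c : ZMod 29},
        X * (y.2 : Matrix (Fin 8) (Fin 8) (ZMod 29)) = c • ((y.2 : Matrix (Fin 8) (Fin 8) (ZMod 29)) * X) →
        c ≠ 0 := by
      intro y c h hc0
      rw [hc0, zero_smul, hX, ← Units.val_mul] at h
      exact Units.ne_zero _ h
    intro y hy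
    induction hy using Subgroup.closure_induction with
    | mem y hy =>
      obtain ⟨k, rfl⟩ := hy
      obtain ⟨c, e⟩ := hfix _ (gen_sq k).2.2
      exact ⟨c, hne (y := gen Q k) e, e⟩
    | one => exact ⟨1, one_ne_zero, by simp⟩
    | mul a b _ _ ha hb =>
      obtain ⟨c, hc0, e⟩ := ha
      obtain ⟨d, hd0, f⟩ := hb
      refine ⟨c * d, mul_ne_zero hc0 hd0, ?_⟩
      simp only [Prod.snd_mul, Units.val_mul]
      rw [← mul_assoc, e, smul_mul_assoc, mul_assoc, f, mul_smul_comm, smul_smul, mul_assoc]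
    | inv a _ ha =>
      obtain ⟨c, hc0, e⟩ := ha
      refine ⟨c⁻¹, inv_ne_zero hc0, ?_⟩
      set A := (a.2 : Matrix (Fin 8) (Fin 8) (ZMod 29))
      set A' := ((a⁻¹).2 : Matrix (Fin 8) (Fin 8) (ZMod 29))
      have h1 : A' * A = 1 := by rw [← Units.val_mul, ← Prod.snd_mul, inv_mul_cancel]; rfl
      have h2 : A * A' = 1 := by rw [← Units.val_mul, ← Prod.snd_mul, mul_inv_cancel]; rfl
      have e' : A' * X = c • (X * A') := by
        calc A' * X = A' * (X * A) * A' := by rw [mul_assoc, mul_assoc, h2, mul_one]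
          _ = c • (A' * (A * X) * A') := by rw [e, mul_smul_comm, smul_mul_assoc]
          _ = c • (X * A') := by rw [← mul_assoc A' A X, h1, one_mul]
      rw [e', smul_smul, inv_mul_cancel₀ hc0, one_smul]
  obtain ⟨c0, hc0, e0⟩ := hsc _ (Subgroup.subset_closure ⟨0, rfl⟩ : gen Q 0 ∈ W Q)
  -- every conjugate of the first generator has the same scalar
  have hconj : ∀ (w : List ℕ) (j : ℕ), j < 315 →
      mul3 (ev3 w) (t (Data.gid 0)) = mul3 (t j) (ev3 w) →
      X * val8 (R j) = c0 • (val8 (R j) * X) := by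
    intro w j hj e
    obtain ⟨i, hi, d, f1, f2⟩ := inv_of_mem Q (wd_mem Q w) _ (gen_sq 0).2.2
    have hij : i = j := by
      refine t_cancel Q hi hj (x := (wd Q w).1) ?_
      rw [← f1, wd_fst, ← val3_mul Q.rel Q.two, ← val3_mul Q.rel Q.two, e]
    subst hij
    obtain ⟨cu, -, eu⟩ := hsc _ (wd_mem Q w)
    obtain ⟨ci, ei⟩ := hfix i hi
    set U := ((wd Q w).2 : Matrix (Fin 8) (Fin 8) (ZMod 29))
    set E0 := val8 (R (Data.gid 0))
    have hd0 : d ≠ 0 := fun h0 => by
      rw [h0, zero_smul] at f2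
      have : ((wd Q w).2 * (gen Q 0).2 : GL (Fin 8) (ZMod 29)).val = 0 := f2
      exact Units.ne_zero _ this
    have h3 : X * (U * E0) = (cu * c0) • ((U * E0) * X) := by
      rw [← mul_assoc, eu, smul_mul_assoc, mul_assoc, show X * E0 = c0 • (E0 * X) from e0, mul_smul_comm,
        smul_smul, mul_assoc]
    rw [f2, mul_smul_comm, smul_mul_assoc, smul_smul, mul_comm _ d, ← smul_smul] at h3
    have h4 := (smul_right_injective _ hd0) h3
    have h5 : X * val8 (R i) * U = c0 • (val8 (R i) * X) * U := by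
      calc X * val8 (R i) * U = X * (val8 (R i) * U) := mul_assoc _ _ _
        _ = (cu * c0) • (val8 (R i) * U * X) := h4
        _ = c0 • (val8 (R i) * (cu • (U * X))) := by
          rw [mul_smul_comm, smul_smul, mul_comm c0 cu, mul_assoc]
        _ = c0 • (val8 (R i) * X) * U := by rw [← eu, smul_mul_assoc, mul_assoc]
    exact (Units.isUnit (wd Q w).2).mul_right_cancel h5
  obtain ⟨w1, w2, wb, wc, htri, hsq, hjb, hjc⟩ := conj_words
  have hg : ∀ k, X * val8 (R (Data.gid k)) = c0 • (val8 (R (Data.gid k)) * X) := by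
    intro k
    rcases k with _ | _ | k
    · exact e0
    · exact hconj _ _ (gen_sq 1).2.2 w1
    · exact hconj _ _ (gen_sq 2).2.2 w2
  have hb := hconj _ _ hjb wb
  have hcc := hconj _ _ hjc wc
  have htri' := congrArg val8 htri
  rw [val8_mul, val8_smul] at htri'
  have hc1 : c0 = 1 := by
    set A := val8 (R (Data.gid 0))
    set B := val8 (R Data.jb)
    have hA : A * A = 1 := by rw [← val8_mul, (gen_sq 0).2.1, val8_one]
    have hB : B * B = 1 := by rw [← val8_mul, hsq, val8_one]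
    have h1 : X * (A * B) = (c0 * c0) • (A * B * X) := by
      rw [← mul_assoc, hg 0, smul_mul_assoc, mul_assoc, hb, mul_smul_comm, smul_smul, mul_assoc]
    have h2 : X * (A * B) = c0 • (A * B * X) := by
      rw [htri', mul_smul_comm, hcc, smul_mul_assoc, smul_comm]
    have h3 := congrArg (fun M => B * A * M) (h1.symm.trans h2)
    simp only [mul_smul_comm] at h3
    rw [show B * A * (A * B * X) = X by rw [← mul_assoc, ← mul_assoc, mul_assoc B A A, hA, mul_one, hB, one_mul]] at h3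
    have h4 := smul_cancel (u := x.2) h3
    exact mul_left_cancel₀ hc0 (h4.trans (mul_one _).symm)
  intro y hy
  have hle : W Q ≤ Subgroup.centralizer {x} := by
    refine (Subgroup.closure_le _).2 ?_
    rintro _ ⟨k, rfl⟩
    refine Subgroup.mem_centralizer_singleton_iff.2 (Prod.ext (Subgroup.mem_center_iff.1 hc _) (Units.ext ?_))
    show (gen Q k).2.val * X = X * (gen Q k).2.val
    have := hg k
    rw [hc1, one_smul] at this
    exact this.symm
  exact Subgroup.mem_centralizer_singleton_iff.1 (hle hy)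

end H39.L34

namespace H39.L34

open Matrix
open scoped commutatorElement

local instance fact29' : Fact (Nat.Prime 29) := ⟨by norm_num⟩

variable {F : Type*} [Field F] [Fintype F] (Q : F4Data F)

/-- Pairs of generators. -/
def gen2 (k : ℕ) : Amb F × Amb F := (gen Q k, gen Q (nx k))

/-- The doubled group. -/
def DD : Subgroup (Amb F × Amb F) := Subgroup.closure (Set.range (gen2 Q))

theorem mem_W_of_mem_DD {x : Amb F × Amb F} (hx : x ∈ DD Q) : x.1 ∈ W Q ∧ x.2 ∈ W Q := by
  have h : DD Q ≤ (W Q).prod (W Q) := (Subgroup.closure_le _).2 (by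
    rintro _ ⟨k, rfl⟩
    exact ⟨Subgroup.subset_closure ⟨k, rfl⟩, Subgroup.subset_closure ⟨_, rfl⟩⟩)
  exact h hx

theorem twist_of_mem {x : Amb F × Amb F} (hx : x ∈ DD Q) :
    (x.2.1 : Matrix (Fin 3) (Fin 3) F) =
      val3 Q.ω (mat3 Data.dTw) * (x.1.1 : Matrix (Fin 3) (Fin 3) F) * val3 Q.ω (mat3 Data.dTi) := by
  set T := val3 Q.ω (mat3 Data.dTw)
  set T' := val3 Q.ω (mat3 Data.dTi)
  have h1 : T' * T = 1 := by rw [← val3_mul Q.rel Q.two, twist_inv.1, val3_one]
  have h2 : T * T' = 1 := by rw [← val3_mul Q.rel Q.two, twist_inv.2, val3_one]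
  induction hx using Subgroup.closure_induction with
  | mem x hx =>
    obtain ⟨k, rfl⟩ := hx
    show val3 Q.ω (t (Data.gid (nx k))) = T * val3 Q.ω (t (Data.gid k)) * T'
    rw [← val3_mul Q.rel Q.two, ← val3_mul Q.rel Q.two, twist_gen]
  | one => simpa using h2.symm
  | mul a b _ _ ha hb =>
    simp only [Prod.snd_mul, Prod.fst_mul, Matrix.SpecialLinearGroup.coe_mul]
    rw [ha, hb]
    simp only [Matrix.mul_assoc]
    rw [← Matrix.mul_assoc T' T, h1, Matrix.one_mul]
  | inv a _ ha =>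
    set A := ((a⁻¹).1.1 : Matrix (Fin 3) (Fin 3) F)
    have hA : (a.1.1 : Matrix (Fin 3) (Fin 3) F) * A = 1 := by
      rw [← Matrix.SpecialLinearGroup.coe_mul, ← Prod.fst_mul, ← Prod.fst_mul, mul_inv_cancel]; rfl
    have hB : (a.2.1 : Matrix (Fin 3) (Fin 3) F) * ((a⁻¹).2.1 : Matrix (Fin 3) (Fin 3) F) = 1 := by
      rw [← Matrix.SpecialLinearGroup.coe_mul, ← Prod.fst_mul, ← Prod.snd_mul, mul_inv_cancel]; rfl
    have hC : (a.2.1 : Matrix (Fin 3) (Fin 3) F) * (T * A * T') = 1 := by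
      rw [ha]
      simp only [Matrix.mul_assoc]
      rw [← Matrix.mul_assoc T' T, h1, Matrix.one_mul, ← Matrix.mul_assoc _ A, hA, Matrix.one_mul, h2]
    exact (left_inv_eq_right_inv (mul_eq_one_comm.1 hB) hC)

theorem scalar_mul_comm (r : F) (A B : Matrix (Fin 3) (Fin 3) F) :
    A * Matrix.scalar (Fin 3) r * B = Matrix.scalar (Fin 3) r * (A * B) := by
  rw [← (Matrix.scalar_commute r (fun s => Commute.all r s) A).eq, Matrix.mul_assoc]

/-- The projection of the doubled group. -/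
def rho : DD Q →* Matrix.ProjectiveSpecialLinearGroup (Fin 3) F :=
  (QuotientGroup.mk' _).comp
    (((MonoidHom.fst (Matrix.SpecialLinearGroup (Fin 3) F) (GL (Fin 8) (ZMod 29))).comp
      (MonoidHom.fst (Amb F) (Amb F))).comp (DD Q).subtype)

theorem rho_ker_le_center : (rho Q).ker ≤ Subgroup.center (DD Q) := by
  intro x hx
  have h1 : (x : Amb F × Amb F).1.1 ∈ Subgroup.center (Matrix.SpecialLinearGroup (Fin 3) F) :=
    (QuotientGroup.eq_one_iff _).1 hx
  obtain ⟨r, hr3, hr⟩ := Matrix.SpecialLinearGroup.mem_center_iff.1 h1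
  have h2 : (x : Amb F × Amb F).2.1 ∈ Subgroup.center (Matrix.SpecialLinearGroup (Fin 3) F) := by
    refine Matrix.SpecialLinearGroup.mem_center_iff.2 ⟨r, hr3, ?_⟩
    rw [twist_of_mem Q x.2, ← hr, scalar_mul_comm, ← val3_mul Q.rel Q.two, twist_inv.2, val3_one,
      Matrix.mul_one]
  rw [Subgroup.mem_center_iff]
  intro y
  obtain ⟨hy1, hy2⟩ := mem_W_of_mem_DD Q y.2
  obtain ⟨hx1, hx2⟩ := mem_W_of_mem_DD Q x.2
  exact Subtype.ext (Prod.ext (central_of_fst_center Q hx1 h1 _ hy1)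
    (central_of_fst_center Q hx2 h2 _ hy2))

theorem val3_el (i j : Fin 3) (hij : i ≠ j) (a : Fin 2) :
    val3 Q.ω (el3 i j ((a : ℕ) + 1)) =
      Matrix.transvection i j (if a = 0 then (1 : F) else Q.ω) := by
  have e : ∀ a : Fin 2,
      el3 0 1 ((a : ℕ) + 1) = ⟨.e, Q4.ofCode ((a : ℕ) + 1), .o, .o, .e, .o, .o, .o, .e⟩ ∧
      el3 0 2 ((a : ℕ) + 1) = ⟨.e, .o, Q4.ofCode ((a : ℕ) + 1), .o, .e, .o, .o, .o, .e⟩ ∧
      el3 1 0 ((a : ℕ) + 1) = ⟨.e, .o, .o, Q4.ofCode ((a : ℕ) + 1), .e, .o, .o, .o, .e⟩ ∧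
      el3 1 2 ((a : ℕ) + 1) = ⟨.e, .o, .o, .o, .e, Q4.ofCode ((a : ℕ) + 1), .o, .o, .e⟩ ∧
      el3 2 0 ((a : ℕ) + 1) = ⟨.e, .o, .o, .o, .e, .o, Q4.ofCode ((a : ℕ) + 1), .o, .e⟩ ∧
      el3 2 1 ((a : ℕ) + 1) = ⟨.e, .o, .o, .o, .e, .o, .o, Q4.ofCode ((a : ℕ) + 1), .e⟩ := by
    decide +kernel
  have hv : Q4.val Q.ω (Q4.ofCode ((a : ℕ) + 1)) = if a = 0 then (1 : F) else Q.ω := by
    fin_cases a <;> rfl
  have ho : Q4.val Q.ω .o = 0 := rfl
  have he : Q4.val Q.ω .e = 1 := rfl
  obtain ⟨e1, e2, e3, e4, e5, e6⟩ := e a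
  fin_cases i <;> fin_cases j <;> simp at hij <;>
    simp only [Fin.zero_eta, Fin.mk_one, Fin.reduceFinMk] <;>
    simp only [e1, e2, e3, e4, e5, e6] <;>
    (ext p q
     fin_cases p <;> fin_cases q <;>
       simp [val3, ho, he, hv, Matrix.transvection, Matrix.single_apply])

theorem fst_surjective :
    Function.Surjective (((MonoidHom.fst (Matrix.SpecialLinearGroup (Fin 3) F) (GL (Fin 8) (ZMod 29))).comp
      (MonoidHom.fst (Amb F) (Amb F))).comp (DD Q).subtype) := by
  set φ := ((MonoidHom.fst (Matrix.SpecialLinearGroup (Fin 3) F) (GL (Fin 8) (ZMod 29))).comp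
      (MonoidHom.fst (Amb F) (Amb F))).comp (DD Q).subtype
  rw [← MonoidHom.range_eq_top]
  have hwd : ∀ w : List ℕ, (wd Q w).1 ∈ φ.range := by
    intro w
    induction w with
    | nil => exact one_mem _
    | cons k w ih =>
      show (gen Q k).1 * (wd Q w).1 ∈ φ.range
      exact mul_mem ⟨⟨gen2 Q k, Subgroup.subset_closure ⟨k, rfl⟩⟩, rfl⟩ ih
  refine H37.eq_top_of_transvection_mem _ fun i j hij c => ?_
  have hbasic : ∀ a : Fin 2, Matrix.SpecialLinearGroup.transvection hij (if a = 0 then (1 : F) else Q.ω) ∈ φ.range := by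
    intro a
    obtain ⟨r, -, hr⟩ := List.any_eq_true.1 (roots_ok i j hij a)
    simp only [decide_eq_true_eq] at hr
    have e : Matrix.SpecialLinearGroup.transvection hij (if a = 0 then (1 : F) else Q.ω) = (wd Q r.2.2.2).1 := by
      apply Subtype.ext
      rw [wd_fst, hr.2.2.2, val3_el Q i j hij a]
      rfl
    rw [e]
    exact hwd _
  have hadd : ∀ a b : F, Matrix.SpecialLinearGroup.transvection hij a * Matrix.SpecialLinearGroup.transvection hij b = Matrix.SpecialLinearGroup.transvection hij (a + b) := fun a b =>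
    Subtype.ext (Matrix.transvection_mul_transvection_same i j hij a b)
  rcases H76.L34.cases_four Q.card Q.rel c with rfl | rfl | h | h
  · have := hadd 0 0
    rw [add_zero] at this
    rw [mul_eq_left.1 this]
    exact one_mem _
  · simpa using hbasic 0
  · rw [h]; simpa using hbasic 1
  · rw [h, show Q.ω * Q.ω = 1 + Q.ω by linear_combination Q.rel - (Q.ω + 1) * Q.two, ← hadd]
    exact mul_mem (by simpa using hbasic 0) (by simpa using hbasic 1)

theorem rho_surjective : Function.Surjective (rho Q) :=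
  (QuotientGroup.mk'_surjective _).comp (fst_surjective Q)

theorem commutator_perfect {D G : Type*} [Group D] [Group G] (π : D →* G) (hc : π.ker ≤ Subgroup.center D)
    (hs : Function.Surjective π) (hG : commutator G = ⊤) :
    (commutator D).map π = ⊤ ∧ commutator (commutator D) = ⊤ := by
  have hD : (commutator D).map π = ⊤ := by
    rw [map_commutator_eq, MonoidHom.range_eq_top.2 hs, ← _root_.commutator_def, hG]
  refine ⟨hD, ?_⟩
  apply Subgroup.map_injective (commutator D).subtype_injective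
  rw [Subgroup.map_subtype_commutator, ← MonoidHom.range_eq_map, Subgroup.range_subtype]
  apply le_antisymm (commutator D).commutator_le_self
  refine Subgroup.commutator_le.2 fun a _ b _ => ?_
  obtain ⟨a', ha, ea⟩ := hD.ge (Subgroup.mem_top (π a))
  obtain ⟨b', hb, eb⟩ := hD.ge (Subgroup.mem_top (π b))
  rw [H76.Cover.comm_congr π hc ea.symm eb.symm]
  exact Subgroup.commutator_mem_commutator ha hb

/-- A word in the doubled group. -/
def wd2 (w : List ℕ) : DD Q :=
  ⟨(wd Q w, wd Q (w.map nx)), by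
    induction w with
    | nil => exact one_mem _
    | cons k w ih =>
      show gen2 Q k * (wd Q w, wd Q (w.map nx)) ∈ DD Q
      exact mul_mem (Subgroup.subset_closure ⟨k, rfl⟩) ih⟩

theorem wd2_append (a b : List ℕ) : wd2 Q (a ++ b) = wd2 Q a * wd2 Q b := by
  apply Subtype.ext
  show (wd Q (a ++ b), wd Q ((a ++ b).map nx)) = (wd Q a, wd Q (a.map nx)) * (wd Q b, wd Q (b.map nx))
  rw [List.map_append, wd_append, wd_append]; rfl

theorem wd2_reverse (a : List ℕ) : wd2 Q a.reverse = (wd2 Q a)⁻¹ := by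
  apply Subtype.ext
  show (wd Q a.reverse, wd Q (a.reverse.map nx)) = (wd Q a, wd Q (a.map nx))⁻¹
  rw [List.map_reverse, wd_reverse, wd_reverse]; rfl

theorem wd2_flatten (L : List ℕ) : ∀ n, wd2 Q (List.replicate n L).flatten = wd2 Q L ^ n
  | 0 => by rw [pow_zero]; rfl
  | n + 1 => by rw [List.replicate_succ, List.flatten_cons, wd2_append, wd2_flatten L n, pow_succ']

theorem cword_mem (a b : List ℕ) : wd2 Q (cword a b) ∈ commutator (DD Q) := by
  rw [cword, wd2_flatten, wd2_append, wd2_append, wd2_append, wd2_reverse, wd2_reverse,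
    ← commutatorElement_def]
  exact pow_mem (Subgroup.commutator_mem_commutator (Subgroup.mem_top _) (Subgroup.mem_top _)) 5

theorem wd2_scalar {w : List ℕ} {c d : ℕ} (h1 : ev3 w = one3) (h2 : ev3 (w.map nx) = one3)
    (h3 : ev8 w = smul8 c one8) (h4 : ev8 (w.map nx) = smul8 d one8) :
    (wd2 Q w).1.1.1 = 1 ∧ (wd2 Q w).1.2.1 = 1 ∧
      ((wd2 Q w).1.1.2 : Matrix (Fin 8) (Fin 8) (ZMod 29)) = (c : ZMod 29) • 1 ∧
      ((wd2 Q w).1.2.2 : Matrix (Fin 8) (Fin 8) (ZMod 29)) = (d : ZMod 29) • 1 := by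
  refine ⟨Subtype.ext ?_, Subtype.ext ?_, ?_, ?_⟩
  · show ((wd Q w).1 : Matrix (Fin 3) (Fin 3) F) = 1
    rw [wd_fst, h1, val3_one]
  · show ((wd Q (w.map nx)).1 : Matrix (Fin 3) (Fin 3) F) = 1
    rw [wd_fst, h2, val3_one]
  · show ((wd Q w).2 : Matrix (Fin 8) (Fin 8) (ZMod 29)) = _
    rw [wd_snd, h3, val8_smul, val8_one]
  · show ((wd Q (w.map nx)).2 : Matrix (Fin 8) (Fin 8) (ZMod 29)) = _
    rw [wd_snd, h4, val8_smul, val8_one]

/-- A hom from a cyclic group. -/
def cycHom {G : Type*} [Group G] (n : ℕ) [NeZero n] (x : G) (hx : x ^ n = 1) :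
    Multiplicative (ZMod n) →* G where
  toFun a := x ^ a.toAdd.val
  map_one' := by simp
  map_mul' a b := by
    rw [toAdd_mul, ZMod.val_add, ← pow_eq_pow_mod _ hx, pow_add]

theorem smul_one_pow (c : ZMod 29) (n : ℕ) :
    (c • (1 : Matrix (Fin 8) (Fin 8) (ZMod 29))) ^ n = c ^ n • 1 := by
  induction n with
  | zero => simp
  | succ n ih => rw [pow_succ, ih, smul_mul_smul_comm, mul_one, pow_succ]

theorem exists_stem :
    ∃ (σ : ↥(commutator (DD Q)) →* Matrix.ProjectiveSpecialLinearGroup (Fin 3) F),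
      Cfsg.IsStemExtension σ ∧
      ∃ f : Multiplicative (ZMod 3 × ZMod 4 × ZMod 4) →* σ.ker, Function.Injective f := by
  have hG : commutator (Matrix.ProjectiveSpecialLinearGroup (Fin 3) F) = ⊤ := by
    have h := H37.commutator_SL_eq_top (ι := Fin 3) (F := F) (by simp)
    rw [_root_.commutator_def, ← MonoidHom.range_eq_top.2 (QuotientGroup.mk'_surjective _),
      MonoidHom.range_eq_map, ← Subgroup.map_commutator, ← _root_.commutator_def, h]
  obtain ⟨hmap, hperf⟩ := commutator_perfect (rho Q) (rho_ker_le_center Q) (rho_surjective Q) hG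
  let σ : ↥(commutator (DD Q)) →* Matrix.ProjectiveSpecialLinearGroup (Fin 3) F :=
    (rho Q).comp (commutator (DD Q)).subtype
  have hσ : Cfsg.IsStemExtension σ := by
    refine ⟨fun g => ?_, fun x hx => ?_, hperf ▸ le_top⟩
    · obtain ⟨x, hx, e⟩ := hmap.ge (Subgroup.mem_top g)
      exact ⟨⟨x, hx⟩, e⟩
    · rw [Subgroup.mem_center_iff]
      intro y
      exact Subtype.ext (Subgroup.mem_center_iff.1 (rho_ker_le_center Q hx) _)
  refine ⟨σ, hσ, ?_⟩
  set K := σ.ker
  haveI : IsMulCommutative K :=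
    ⟨⟨fun a b => Subtype.ext (Subgroup.mem_center_iff.1 (hσ.2.1 b.2) a)⟩⟩
  -- the elements of order four
  obtain ⟨a1, a2, a3, a4, b1, b2, b3, b4⟩ := word_vals
  have hu := wd2_scalar Q a1 a2 a3 a4
  have hv := wd2_scalar Q b1 b2 b3 b4
  have hker : ∀ x : ↥(commutator (DD Q)),
      (x : DD Q).1.1.1 ∈ Subgroup.center (Matrix.SpecialLinearGroup (Fin 3) F) → x ∈ K := fun x h => by
    rw [MonoidHom.mem_ker]
    exact (QuotientGroup.eq_one_iff _).2 h
  let u : K := ⟨⟨_, cword_mem Q Data.pa1 Data.pb1⟩, hker _ (by rw [hu.1]; exact one_mem _)⟩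
  let v : K := ⟨⟨_, cword_mem Q Data.pa2 Data.pb2⟩, hker _ (by rw [hv.1]; exact one_mem _)⟩
  -- the element of order three
  have hω0 : Q.ω ≠ 0 := fun h => by have := Q.rel; rw [h] at this; simp at this
  have hω3 : Q.ω ^ 3 = 1 := by linear_combination (Q.ω - 1) * Q.rel
  have hωc : Matrix.scalar (Fin 3) Q.ω = val3 Q.ω (mat3 (2 + 2 * 4 ^ 4 + 2 * 4 ^ 8)) := by
    rw [show mat3 (2 + 2 * 4 ^ 4 + 2 * 4 ^ 8) = ⟨.w, .o, .o, .o, .w, .o, .o, .o, .w⟩ by decide +kernel]
    ext i j
    fin_cases i <;> fin_cases j <;> simp [val3, Q4.val, Matrix.scalar_apply]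
  let zc : Matrix.SpecialLinearGroup (Fin 3) F :=
    ⟨Matrix.scalar (Fin 3) Q.ω, by simp [Matrix.scalar_apply, det_diagonal, hω3]⟩
  set φ := ((MonoidHom.fst (Matrix.SpecialLinearGroup (Fin 3) F) (GL (Fin 8) (ZMod 29))).comp
      (MonoidHom.fst (Amb F) (Amb F))).comp (DD Q).subtype
  obtain ⟨z0, hz0, hz0e⟩ : ∃ x ∈ commutator (DD Q), φ x = zc := by
    have : (commutator (DD Q)).map φ = ⊤ := by
      rw [map_commutator_eq, MonoidHom.range_eq_top.2 (fst_surjective Q), ← _root_.commutator_def,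
        H37.commutator_SL_eq_top (ι := Fin 3) (F := F) (by simp)]
    exact this.ge (Subgroup.mem_top zc)
  have hzcen : zc ∈ Subgroup.center (Matrix.SpecialLinearGroup (Fin 3) F) :=
    Matrix.SpecialLinearGroup.mem_center_iff.2 ⟨Q.ω, by simpa using hω3, rfl⟩
  let z1 : K := ⟨⟨z0, hz0⟩, hker _ (by rw [show (z0 : Amb F × Amb F).1.1 = zc from hz0e]; exact hzcen)⟩
  have hz48 : ∀ x : K, x ^ 48 = 1 := fun x =>
    orderOf_dvd_iff_pow_eq_one.1 ((orderOf_dvd_natCard x).trans (card_ker_dvd Q.card σ hσ))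
  let ψ : K →* Matrix.SpecialLinearGroup (Fin 3) F :=
    (φ.comp (commutator (DD Q)).subtype).comp K.subtype
  have hψz1 : ψ z1 = zc := hz0e
  have hzc3 : zc ^ 3 = 1 := Subtype.ext (by
    rw [Matrix.SpecialLinearGroup.coe_pow]
    show Matrix.scalar (Fin 3) Q.ω ^ 3 = 1
    rw [← map_pow, hω3, map_one])
  have hzco : orderOf zc = 3 := by
    refine orderOf_eq_prime hzc3 fun h => Q.ne ?_
    have := congrFun (congrFun (congrArg Subtype.val h) 0) 0
    simpa [zc, Matrix.scalar_apply] using this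
  set z := z1 ^ 16 with hzdef
  have hz3 : z ^ 3 = 1 := by rw [hzdef, ← pow_mul]; exact hz48 z1
  have hψz : ψ z = zc := by rw [hzdef, map_pow, hψz1, pow_eq_pow_mod 16 hzc3, pow_one]
  let P : K →* Amb F × Amb F :=
    ((DD Q).subtype.comp (commutator (DD Q)).subtype).comp K.subtype
  have hPinj : Function.Injective P :=
    Subtype.val_injective.comp (Subtype.val_injective.comp Subtype.val_injective)
  have hord : ∀ (x : K) (c d : ZMod 29), (P x).1.1 = 1 → (P x).2.1 = 1 →
      ((P x).1.2 : Matrix (Fin 8) (Fin 8) (ZMod 29)) = c • 1 →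
      ((P x).2.2 : Matrix (Fin 8) (Fin 8) (ZMod 29)) = d • 1 → c ^ 4 = 1 → d ^ 4 = 1 → x ^ 4 = 1 := by
    intro x c d h1 h2 h3 h4 hc hd
    refine hPinj ?_
    rw [map_pow, map_one]
    refine Prod.ext (Prod.ext ?_ (Units.ext ?_)) (Prod.ext ?_ (Units.ext ?_))
    · simp [h1]
    · simp only [Prod.pow_fst, Prod.pow_snd, Prod.fst_one, Prod.snd_one, Units.val_pow_eq_pow_val,
        Units.val_one, h3, smul_one_pow, hc, one_smul]
    · simp [h2]
    · simp only [Prod.pow_fst, Prod.pow_snd, Prod.fst_one, Prod.snd_one, Units.val_pow_eq_pow_val,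
        Units.val_one, h4, smul_one_pow, hd, one_smul]
  have hu4 : u ^ 4 = 1 := hord u _ _ hu.1 hu.2.1 hu.2.2.1 hu.2.2.2 (by decide +kernel) (by decide +kernel)
  have hv4 : v ^ 4 = 1 := hord v _ _ hv.1 hv.2.1 hv.2.2.1 hv.2.2.2 (by decide +kernel) (by decide +kernel)
  let f : Multiplicative (ZMod 3 × ZMod 4 × ZMod 4) →* K := MonoidHom.mk'
    (fun x => cycHom 3 z hz3 (Multiplicative.ofAdd x.toAdd.1) *
      (cycHom 4 u hu4 (Multiplicative.ofAdd x.toAdd.2.1) * cycHom 4 v hv4 (Multiplicative.ofAdd x.toAdd.2.2)))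
    (fun x y => by
      simp only [toAdd_mul, Prod.fst_add, Prod.snd_add, ofAdd_add, map_mul]
      have hc : ∀ p q : K, p * q = q * p := fun p q => mul_comm' p q
      simp only [mul_assoc]
      grind)
  refine ⟨f, ?_⟩
  rw [injective_iff_map_eq_one]
  intro x hx
  obtain ⟨⟨a, b, c⟩, rfl⟩ := Multiplicative.ofAdd.surjective x
  replace hx : z ^ a.val * (u ^ b.val * v ^ c.val) = 1 := hx
  have ha : a = 0 := by
    have hψu : ψ u = 1 := hu.1
    have hψv : ψ v = 1 := hv.1
    have h := congrArg ψ hx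
    rw [map_mul, map_mul, map_pow ψ z, map_pow ψ u, map_pow ψ v, map_one, hψz, hψu, hψv, one_pow, one_pow, one_mul,
      mul_one] at h
    have hd := orderOf_dvd_of_pow_eq_one h
    rw [hzco] at hd
    have := a.val_lt
    exact (ZMod.val_eq_zero a).1 (by omega)
  subst ha
  rw [ZMod.val_zero, pow_zero, one_mul] at hx
  have hP := congrArg P hx
  rw [map_mul, map_pow, map_pow, map_one] at hP
  have key : ∀ {c d : ZMod 29} {m n : ℕ} {A B : GL (Fin 8) (ZMod 29)},
      (A : Matrix (Fin 8) (Fin 8) (ZMod 29)) = c • 1 → (B : Matrix (Fin 8) (Fin 8) (ZMod 29)) = d • 1 →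
      A ^ m * B ^ n = 1 → c ^ m * d ^ n = 1 := by
    intro c d m n A B hA hB h
    have h' : ((A ^ m * B ^ n : GL (Fin 8) (ZMod 29)) : Matrix (Fin 8) (Fin 8) (ZMod 29)) = 1 := by rw [h]; rfl
    rw [Units.val_mul, Units.val_pow_eq_pow_val, Units.val_pow_eq_pow_val, hA, hB, smul_one_pow,
      smul_one_pow, smul_mul_smul_comm, mul_one] at h'
    have := congrFun (congrFun h' 0) 0
    simpa using this
  have k1 := key hu.2.2.1 hv.2.2.1 (congrArg (fun p : Amb F × Amb F => p.1.2) hP)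
  have k2 := key hu.2.2.2 hv.2.2.2 (congrArg (fun p : Amb F × Amb F => p.2.2) hP)
  have hbc : ∀ b c : ZMod 4, ((12 : ℕ) : ZMod 29) ^ b.val * ((12 : ℕ) : ZMod 29) ^ c.val = 1 →
      ((12 : ℕ) : ZMod 29) ^ b.val * ((28 : ℕ) : ZMod 29) ^ c.val = 1 → b = 0 ∧ c = 0 := by
    decide +kernel
  obtain ⟨rfl, rfl⟩ := hbc b c k1 k2
  rfl

end H39.L34
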